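import Cfsg.Agent.H896.Der4.Even

/-!
# The row of `PSp_4(q)`, `q ≥ 5` (helper896, S3500, for helper439)
-/

set_option autoImplicit false

namespace Cfsg.Agent.H896.Der4

open Cfsg.Agent.H439.Der

/-- **`PSp_4(q)`, `q ≥ 5`**. -/
theorem row_psp4 {F : Type} [Field F] [Fintype F] (hq : 5 ≤ Fintype.card F) : Row (Cfsg.PSp 2 F) := by
  by_cases hodd : Odd (Fintype.card F)
  · exact row_odd hodd hq
  · obtain ⟨p, hpchar⟩ : ∃ p, CharP F p := CharP.exists F
    have hp : p.Prime := CharP.char_is_prime F p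
    have hpf : Fact p.Prime := ⟨hp⟩
    obtain ⟨n, -, hn⟩ := FiniteField.card F p
    have hp2 : p = 2 := by
      by_contra h
      apply hodd
      rw [hn]
      exact (hp.odd_of_ne_two h).pow
    subst hp2
    refine row_even_aux (N := n) hn ?_
    have h2 : 2 < (n : ℕ) := by
      by_contra hcon
      have : (n : ℕ) ≤ 2 := by omega
      have := Nat.pow_le_pow_right (show 0 < 2 by norm_num) this
      rw [hn] at hq
      omega
    calc 8 = 2 ^ 3 := by norm_num
      _ ≤ 2 ^ (n : ℕ) := Nat.pow_le_pow_right (by norm_num) h2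

end Cfsg.Agent.H896.Der4
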