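import Cfsg.Agent.H439.Der.Tools
import Cfsg.Agent.H163.PG.Ord
import Cfsg.Agent.H374.SpFour
import Cfsg.Agent.Mrg.Omega.TwoF.RowPSp

/-!
# No prime is a single class in `PSp_4(q)`, `q ≥ 5` (helper896, S3500)
-/

set_option autoImplicit false

namespace Cfsg.Agent.H896.Der4

open Subgroup Cfsg.Agent.H439.Der Cfsg.Agent.H374.SpFour Cfsg.Agent.H374.Quad

variable {F : Type} [Field F]

abbrev M4 (F : Type) := Matrix (Fin 2 ⊕ Fin 2) (Fin 2 ⊕ Fin 2) F

theorem cl_eq_iff {A B : M4 F} {hA : A ∈ Matrix.symplecticGroup (Fin 2) F} {hB : B ∈ Matrix.symplecticGroup (Fin 2) F} :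
    cl A hA = cl B hB ↔ ∃ c : F, B = c • A := by
  have h0 : cl A hA = cl B hB ↔ (⟨A, hA⟩ : Matrix.symplecticGroup (Fin 2) F)⁻¹ * ⟨B, hB⟩ ∈
      Subgroup.center (Matrix.symplecticGroup (Fin 2) F) := QuotientGroup.eq
  rw [h0, LieClassical.SympCenter.mem_center_iff]
  have h1 : A * (((⟨A, hA⟩ : Matrix.symplecticGroup (Fin 2) F)⁻¹ : Matrix.symplecticGroup (Fin 2) F) : M4 F) = 1 :=
    congrArg Subtype.val (mul_inv_cancel (⟨A, hA⟩ : Matrix.symplecticGroup (Fin 2) F))
  have h2 : (((⟨A, hA⟩ : Matrix.symplecticGroup (Fin 2) F)⁻¹ : Matrix.symplecticGroup (Fin 2) F) : M4 F) * A = 1 :=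
    congrArg Subtype.val (inv_mul_cancel (⟨A, hA⟩ : Matrix.symplecticGroup (Fin 2) F))
  constructor
  · rintro ⟨c, hc⟩
    refine ⟨c, ?_⟩
    have h3 : (((⟨A, hA⟩ : Matrix.symplecticGroup (Fin 2) F)⁻¹ : Matrix.symplecticGroup (Fin 2) F) : M4 F) * B = c • 1 := hc
    have h4 := congrArg (fun X : M4 F => A * X) h3
    simp only [← Matrix.mul_assoc, h1, Matrix.one_mul, Matrix.mul_smul, Matrix.mul_one] at h4
    exact h4
  · rintro ⟨c, hc⟩
    refine ⟨c, ?_⟩
    change (((⟨A, hA⟩ : Matrix.symplecticGroup (Fin 2) F)⁻¹ : Matrix.symplecticGroup (Fin 2) F) : M4 F) * B = c • 1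
    rw [hc, Matrix.mul_smul, h2]

theorem smul_mem {A : M4 F} (hA : A ∈ Matrix.symplecticGroup (Fin 2) F) {c : F} (hcc : c * c = 1) :
    c • A ∈ Matrix.symplecticGroup (Fin 2) F := by
  rw [SymplecticGroup.mem_iff] at hA ⊢
  rw [Matrix.transpose_smul, Matrix.smul_mul, Matrix.smul_mul, Matrix.mul_smul, smul_smul, hcc, one_smul, hA]

/-- a lift of odd order. -/
theorem exists_lift {x : Cfsg.PSp 2 F} {v : ℕ} (hv2 : Odd v) (hx : x ^ v = 1) :
    ∃ A hA, cl A hA = x ∧ A ^ v = 1 := by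
  obtain ⟨A, hA, rfl⟩ := cl_surj x
  obtain ⟨c, hc⟩ := cl_pow_eq_one.1 hx
  have hc2 := sq_of_scalar hA hc
  have hcc : c * c = 1 := by rw [← pow_two]; exact hc2
  refine ⟨c • A, smul_mem hA hcc, ?_, ?_⟩
  · rw [cl_eq_iff]
    exact ⟨c, by rw [smul_smul, hcc, one_smul]⟩
  · rw [smul_pow, hc, smul_smul]
    obtain ⟨k, hk⟩ := hv2
    have : c ^ v * c = 1 := by
      rw [← pow_succ, hk, show 2 * k + 1 + 1 = 2 * (k + 1) by ring, pow_mul, hc2, one_pow]
    rw [this, one_smul]

/-- conjugate powers: the eigenvalues are permuted. -/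
theorem spectrum_pow_mem {K : Type} [Field K] [Algebra F K] {A : M4 F} {hA : A ∈ Matrix.symplecticGroup (Fin 2) F} {v k : ℕ}
    (hv2 : Odd v) (hAv : A ^ v = 1) {g : Cfsg.PSp 2 F} (hg : g * cl A hA * g⁻¹ = (cl A hA) ^ k) {a : K}
    (ha : a ∈ spectrum K (A.map (algebraMap F K))) : a ^ k ∈ spectrum K (A.map (algebraMap F K)) := by
  obtain ⟨G, hG, rfl⟩ := cl_surj g
  -- `A ^ k * G = G * A`
  have h1 : cl (G * A) (Submonoid.mul_mem _ hG hA) = cl (A ^ k * G) (Submonoid.mul_mem _ (Submonoid.pow_mem _ hA k) hG) := by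
    have h2 : cl G hG * cl A hA = (cl A hA) ^ k * cl G hG := by
      rw [← hg, inv_mul_cancel_right]
    exact h2
  obtain ⟨c, hc⟩ := cl_eq_iff.1 h1
  have h3 : ∀ j : ℕ, (A ^ k) ^ j * G = c ^ j • (G * A ^ j) := by
    intro j
    induction j with
    | zero => simp
    | succ j ih =>
      rw [pow_succ, mul_assoc, hc, Matrix.mul_smul, ← mul_assoc, ih, Matrix.smul_mul, smul_smul, mul_assoc, ← pow_succ,
        ← pow_succ']
  have hGG : G * (((⟨G, hG⟩ : Matrix.symplecticGroup (Fin 2) F)⁻¹ : Matrix.symplecticGroup (Fin 2) F) : M4 F) = 1 :=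
    congrArg Subtype.val (mul_inv_cancel (⟨G, hG⟩ : Matrix.symplecticGroup (Fin 2) F))
  have hGG' : (((⟨G, hG⟩ : Matrix.symplecticGroup (Fin 2) F)⁻¹ : Matrix.symplecticGroup (Fin 2) F) : M4 F) * G = 1 :=
    congrArg Subtype.val (inv_mul_cancel (⟨G, hG⟩ : Matrix.symplecticGroup (Fin 2) F))
  have hcv : c ^ v = 1 := by
    have h4 := h3 v
    rw [← pow_mul, mul_comm k v, pow_mul, hAv, one_pow, one_mul, mul_one] at h4
    have h5 := congrArg (fun X : M4 F => X * (((⟨G, hG⟩ : Matrix.symplecticGroup (Fin 2) F)⁻¹ :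
      Matrix.symplecticGroup (Fin 2) F) : M4 F)) h4
    simp only [Matrix.smul_mul, hGG] at h5
    have h6 := congrFun (congrFun h5 (Sum.inl 0)) (Sum.inl 0)
    simpa using h6.symm
  have hc2 : c ^ 2 = 1 := by
    have h4 : c • (G * A) ∈ Matrix.symplecticGroup (Fin 2) F := by
      rw [← hc]; exact Submonoid.mul_mem _ (Submonoid.pow_mem _ hA k) hG
    have h5 : (⟨c • (G * A), h4⟩ * (⟨G * A, Submonoid.mul_mem _ hG hA⟩ : Matrix.symplecticGroup (Fin 2) F)⁻¹ :
      Matrix.symplecticGroup (Fin 2) F).1 = c • 1 := by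
      have h6 : (G * A) * (((⟨G * A, Submonoid.mul_mem _ hG hA⟩ : Matrix.symplecticGroup (Fin 2) F)⁻¹ :
        Matrix.symplecticGroup (Fin 2) F) : M4 F) = 1 :=
        congrArg Subtype.val (mul_inv_cancel (⟨G * A, Submonoid.mul_mem _ hG hA⟩ : Matrix.symplecticGroup (Fin 2) F))
      change (c • (G * A)) * (((⟨G * A, Submonoid.mul_mem _ hG hA⟩ : Matrix.symplecticGroup (Fin 2) F)⁻¹ :
        Matrix.symplecticGroup (Fin 2) F) : M4 F) = _
      rw [Matrix.smul_mul, h6]
    rw [pow_two]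
    apply LieClassical.SympCenter.sq_eq_one_of_smul_mem (m := 2) (by norm_num)
    rw [← h5]
    exact Subtype.prop _
  have hc1 : c = 1 := by
    obtain ⟨j, hj⟩ := hv2
    rw [hj, pow_succ, pow_mul, hc2, one_pow, one_mul] at hcv
    exact hcv
  rw [hc1, one_smul] at hc
  -- over `K`
  set f := (algebraMap F K).mapMatrix (m := Fin 2 ⊕ Fin 2) with hf
  have h7 : f A ^ k * f G = f G * f A := by rw [← map_pow, ← map_mul, hc, map_mul]
  let U : (Matrix (Fin 2 ⊕ Fin 2) (Fin 2 ⊕ Fin 2) K)ˣ := ⟨f G, f _, by rw [← map_mul, hGG, map_one],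
    by rw [← map_mul, hGG', map_one]⟩
  have h8 : (U : Matrix (Fin 2 ⊕ Fin 2) (Fin 2 ⊕ Fin 2) K) * f A * ((U⁻¹ : (Matrix (Fin 2 ⊕ Fin 2) (Fin 2 ⊕ Fin 2) K)ˣ) :
      Matrix (Fin 2 ⊕ Fin 2) (Fin 2 ⊕ Fin 2) K) = f A ^ k := by
    change f G * f A * f _ = _
    rw [← h7, mul_assoc, ← map_mul, hGG, map_one, mul_one]
  have h9 : a ^ k ∈ spectrum K (f A ^ k) := spectrum.pow_image_subset (𝕜 := K) (f A) k ⟨a, ha, rfl⟩
  rw [← h8, spectrum.units_conjugate] at h9
  exact h9

theorem exists_eigenvalue (K : Type) [Field K] [Algebra F K] [IsAlgClosed K] {p : ℕ} [hp : Fact p.Prime] [CharP F p]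
    {A : M4 F} {v : ℕ} (hv : v.Prime) (hvp : v ≠ p)
    (hAv : A ^ v = 1) (hA1 : A ≠ 1) :
    ∃ a ∈ spectrum K (A.map (algebraMap F K)), a ≠ 1 := by
  by_contra hcon
  push Not at hcon
  apply hA1
  set B := A.map (algebraMap F K) with hB
  have hchar : CharP K p := charP_of_injective_algebraMap (algebraMap F K).injective p
  have h1 : B.charpoly = (Polynomial.X - Polynomial.C 1) ^ 4 := by
    have h2 := IsAlgClosed.splits (B.charpoly)
    have h3 := h2.eq_prod_roots
    rw [Matrix.charpoly_monic B |>.leadingCoeff, Polynomial.C_1, one_mul] at h3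
    have h4 : B.charpoly.roots = Multiset.replicate 4 1 := by
      rw [Multiset.eq_replicate]
      constructor
      · rw [← h2.natDegree_eq_card_roots, Matrix.charpoly_natDegree_eq_dim]
        rfl
      · intro b hb
        apply hcon b
        rw [Matrix.mem_spectrum_iff_isRoot_charpoly]
        exact (Polynomial.mem_roots'.1 hb).2
    rw [h4] at h3
    rw [h3, Multiset.map_replicate, Multiset.prod_replicate]
  have h5 : (B - 1) ^ 4 = 0 := by
    have h6 := Matrix.aeval_self_charpoly B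
    rw [h1] at h6
    simpa using h6
  have h7 : B ^ (p ^ 2) = 1 := by
    have hM : CharP (Matrix (Fin 2 ⊕ Fin 2) (Fin 2 ⊕ Fin 2) K) p := inferInstance
    have h8 : (B - 1) ^ (p ^ 2) = 0 := by
      have : 4 ≤ p ^ 2 := by
        have := hp.out.two_le
        nlinarith
      exact pow_eq_zero_of_le this h5
    rw [sub_pow_char_pow_of_commute _ _ (Commute.one_right B), one_pow, sub_eq_zero] at h8
    exact h8
  have h9 : B ^ v = 1 := by
    have : B = (algebraMap F K).mapMatrix A := rfl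
    rw [this, ← map_pow, hAv, map_one]
  have h10 : B = 1 := by
    have h11 : Nat.Coprime v (p ^ 2) := Nat.Coprime.pow_right 2 ((Nat.coprime_primes hv hp.out).2 hvp)
    have h12 : B ^ (Nat.gcd v (p ^ 2)) = 1 := by
      have := orderOf_dvd_of_pow_eq_one h9
      have h14 := orderOf_dvd_of_pow_eq_one h7
      exact orderOf_dvd_iff_pow_eq_one.1 (Nat.dvd_gcd this h14)
    rw [h11.gcd_eq_one, pow_one] at h12
    exact h12
  have hinj : Function.Injective ((algebraMap F K).mapMatrix (m := Fin 2 ⊕ Fin 2)) :=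
    Matrix.map_injective (algebraMap F K).injective
  apply hinj
  rw [map_one]
  exact h10

theorem card_conjPow_le_aux (K : Type) [Field K] [Algebra F K] [IsAlgClosed K] [Fintype F] {p : ℕ} [hp : Fact p.Prime] [CharP F p] {v : ℕ} (hv : v.Prime) (hvp : v ≠ p) (hv2 : v ≠ 2)
    {x : Cfsg.PSp 2 F} (hx : orderOf x = v) : Nat.card (conjPow x) ≤ 4 := by
  classical
  have hodd : Odd v := hv.odd_of_ne_two hv2
  obtain ⟨A, hA, rfl, hAv⟩ := exists_lift hodd (x := x) (by rw [← hx]; exact pow_orderOf_eq_one x)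
  have hA1 : A ≠ 1 := by
    rintro rfl
    have : cl (1 : M4 F) hA = 1 := rfl
    rw [this, orderOf_one] at hx
    exact hv.one_lt.ne hx
  obtain ⟨a, ha, ha1⟩ := exists_eigenvalue K (p := p) hv hvp hAv hA1
  have : Finite (Matrix.symplecticGroup (Fin 2) F) := Subtype.finite
  have : Finite (Cfsg.PSp 2 F) := inferInstance
  set B := A.map (algebraMap F K) with hB
  have hav : a ^ v = 1 := by
    have h1 := spectrum.pow_image_subset (𝕜 := K) B v ⟨a, ha, rfl⟩
    have h9 : B ^ v = 1 := by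
      have : B = (algebraMap F K).mapMatrix A := rfl
      rw [this, ← map_pow, hAv, map_one]
    rw [h9, spectrum.one_eq] at h1
    exact h1
  have hord : orderOf a = v := by
    have := Fact.mk hv
    exact orderOf_eq_prime hav ha1
  have hk : ∀ y : conjPow (cl A hA), ∃ k < v, (cl A hA) ^ k = y := by
    rintro ⟨y, hy, -⟩
    rw [mem_zpowers_iff_mem_range_orderOf] at hy
    rw [Finset.mem_image] at hy
    obtain ⟨k, hk, hky⟩ := hy
    rw [Finset.mem_range, hx] at hk
    exact ⟨k, hk, hky⟩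
  choose k hkv hk using hk
  let R := B.charpoly.roots.toFinset
  have hR : R.card ≤ 4 := by
    refine (Multiset.toFinset_card_le _).trans ((Polynomial.card_roots' _).trans ?_)
    rw [Matrix.charpoly_natDegree_eq_dim]
    rfl
  have hmem : ∀ y : conjPow (cl A hA), a ^ k y ∈ R := by
    intro y
    obtain ⟨-, g, hg⟩ := y.2
    have h1 := spectrum_pow_mem (K := K) hodd hAv (g := g) (k := k y) (by rw [hk, hg]) ha
    rw [Matrix.mem_spectrum_iff_isRoot_charpoly] at h1
    rw [Multiset.mem_toFinset, Polynomial.mem_roots (Matrix.charpoly_monic B).ne_zero]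
    exact h1
  have h2 : Nat.card (conjPow (cl A hA)) ≤ Nat.card R := by
    refine Nat.card_le_card_of_injective (fun y => (⟨a ^ k y, hmem y⟩ : R)) ?_
    intro y z hyz
    have h3 : a ^ k y = a ^ k z := congrArg Subtype.val hyz
    have h4 : k y = k z := by
      apply pow_injOn_Iio_orderOf (x := a)
      · rw [Set.mem_Iio, hord]; exact hkv y
      · rw [Set.mem_Iio, hord]; exact hkv z
      · exact h3
    apply Subtype.ext
    rw [← hk y, ← hk z, h4]
  rw [Nat.card_eq_fintype_card (α := R), Fintype.card_coe] at h2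
  exact h2.trans hR

theorem card_conjPow_le [Fintype F] {p : ℕ} [hp : Fact p.Prime] [CharP F p] {v : ℕ} (hv : v.Prime) (hvp : v ≠ p)
    (hv2 : v ≠ 2) {x : Cfsg.PSp 2 F} (hx : orderOf x = v) : Nat.card (conjPow x) ≤ 4 :=
  card_conjPow_le_aux (AlgebraicClosure F) (p := p) hv hvp hv2 hx

/-- **no prime is a single class in `PSp_4(q)`.** -/
theorem nsc [Fintype F] (hq : 5 ≤ Fintype.card F) : NSC (Cfsg.PSp 2 F) := by
  intro v hv hvd hSC
  have : Finite (Matrix.symplecticGroup (Fin 2) F) := Subtype.finite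
  have : Finite (Cfsg.PSp 2 F) := inferInstance
  obtain ⟨p, hpchar⟩ : ∃ p, CharP F p := CharP.exists F
  have hp : p.Prime := CharP.char_is_prime F p
  have hpf : Fact p.Prime := ⟨hp⟩
  obtain ⟨n, hn1, hn⟩ : ∃ n : ℕ, 1 ≤ n ∧ Fintype.card F = p ^ n := by
    obtain ⟨n, -, hn⟩ := FiniteField.card F p
    exact ⟨n, n.pos, hn⟩
  have hspec := exists_iff (F := F) (p := p) (n := n) (by omega) hn (by rw [← hn]; omega)
  rw [← hn] at hspec
  have hex1 := (hspec (p * (Fintype.card F - 1))).2 (Or.inl dvd_rfl)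
  have hex2 := (hspec (p * (Fintype.card F + 1))).2 (Or.inr (Or.inl dvd_rfl))
  have hp2 := hp.two_le
  have kill : ∀ e : ℕ, 2 ≤ e → v ∣ p * e → (∃ x : Cfsg.PSp 2 F, orderOf x = p * e) → False := by
    rintro e he hve ⟨x, hx⟩
    refine not_SC_of_orderOf hv (y := x) (by rw [hx]; exact hve) ?_ hSC
    rw [hx]
    rintro rfl
    exact Nat.not_prime_mul (by omega) (by omega) hv
  have hvp : v ≠ p := by
    rintro rfl
    exact kill _ (by omega) (dvd_mul_right _ _) hex1
  have h1 : ¬ v ∣ Fintype.card F - 1 := fun h => kill _ (by omega) (h.mul_left _) hex1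
  have h2 : ¬ v ∣ Fintype.card F + 1 := fun h => kill _ (by omega) (h.mul_left _) hex2
  have hv2 : v ≠ 2 := by
    rintro rfl
    rcases Nat.even_or_odd (Fintype.card F) with h | h
    · have : 2 ∣ p ^ n := by rw [← hn]; exact h.two_dvd
      exact hvp ((Nat.prime_dvd_prime_iff_eq Nat.prime_two hp).1 (Nat.prime_two.dvd_of_dvd_pow this))
    · exact h2 (h.add_one.two_dvd)
  -- `v ∣ q² + 1`
  have h3 : v ∣ Fintype.card F ^ 2 + 1 := by
    rcases Cfsg.Agent.H163.PG.of_dvd_psp (by norm_num) hv hvd with h | ⟨k, hk1, hk2, h⟩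
    · rw [hn] at h
      exact absurd ((Nat.prime_dvd_prime_iff_eq hv hp).1 (hv.dvd_of_dvd_pow h)) hvp
    · have hk : k = 1 ∨ k = 2 := by omega
      have h4 : Fintype.card F ^ 2 - 1 = (Fintype.card F - 1) * (Fintype.card F + 1) := sq_sub_one _ (by omega)
      rcases hk with rfl | rfl
      · rw [mul_one, h4] at h
        rcases hv.dvd_mul.1 h with h | h
        · exact absurd h h1
        · exact absurd h h2
      · have h5 : Fintype.card F ^ (2 * 2) - 1 = (Fintype.card F - 1) * (Fintype.card F + 1) * (Fintype.card F ^ 2 + 1) := by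
          rw [← h4]
          have h6 : Fintype.card F ^ (2 * 2) - 1 = (Fintype.card F ^ 2) ^ 2 - 1 := by rw [← pow_mul]
          rw [h6, sq_sub_one _ (Nat.one_le_pow _ _ (by omega))]
        rw [h5] at h
        rcases hv.dvd_mul.1 h with h | h
        · rcases hv.dvd_mul.1 h with h | h
          · exact absurd h h1
          · exact absurd h h2
        · exact h
  set q := Fintype.card F with hq'
  set d := Nat.gcd 2 (q - 1) with hd
  have hd2 : d ∣ 2 := Nat.gcd_dvd_left _ _
  have hdle : d ≤ 2 := Nat.le_of_dvd (by norm_num) hd2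
  have hd0 : 0 < d := Nat.gcd_pos_of_pos_left _ (by norm_num)
  have h4 : d * ((q ^ 2 + 1) / d) = q ^ 2 + 1 := by
    apply Nat.mul_div_cancel'
    rcases Nat.even_or_odd q with h | h
    · have : d = 1 := by rw [hd]; exact gcd_of_even h (by omega)
      rw [this]; exact one_dvd _
    · have : d = 2 := by rw [hd]; exact gcd_of_odd h
      rw [this]
      exact (h.pow.add_one).two_dvd
  have hvN : v ∣ (q ^ 2 + 1) / d := by
    rw [← h4] at h3
    rcases hv.dvd_mul.1 h3 with h | h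
    · have h5 := h.trans hd2
      exact absurd ((Nat.prime_dvd_prime_iff_eq hv Nat.prime_two).1 h5) hv2
    · exact h
  obtain ⟨x, hx⟩ := (hspec ((q ^ 2 + 1) / d)).2 (Or.inr (Or.inr (Or.inr (Or.inl dvd_rfl))))
  by_cases hNv : (q ^ 2 + 1) / d = v
  · rw [hNv] at hx
    have h5 := hSC.sub_one_le hv hx
    have h6 := card_conjPow_le (p := p) hv hvp hv2 hx
    have h7 := Cfsg.Agent.H163.PG.card_out_psp (F := F) (n := 2) hp hn1 hn le_rfl (fun _ => by omega)
      (Cfsg.Agent.Omega.TwoF.RowPSp.center_eq_bot le_rfl)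
    rw [← hn, ← hd] at h7
    have h8 : Nat.card (Cfsg.Out (Cfsg.PSp 2 F)) = 2 * n := by
      rw [h7]
      by_cases hp2' : p = 2
      · rw [if_pos ⟨rfl, hp2'⟩]
        have : d = 1 := by
          rw [hd]
          refine gcd_of_even ?_ (by omega)
          rw [hn, hp2']
          exact Even.pow_of_ne_zero even_two (by omega)
        rw [this, mul_one]
      · rw [if_neg (fun h => hp2' h.2)]
        have : d = 2 := by
          rw [hd]
          refine gcd_of_odd ?_
          rw [hn]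
          exact (hp.odd_of_ne_two hp2').pow
        rw [this, one_mul]
    rw [h8] at h5
    have h9 : v ≤ 8 * n + 1 := by
      have := Nat.mul_le_mul_left (2 * n) h6
      omega
    have h10 : q ^ 2 + 1 ≤ 2 * (8 * n + 1) := by
      rw [← h4, hNv]
      exact Nat.mul_le_mul hdle h9
    have h11 : 2 ^ n ≤ q := by
      rw [hn]; exact Nat.pow_le_pow_left hp2 n
    rcases (by omega : n = 1 ∨ n = 2 ∨ 3 ≤ n) with rfl | rfl | h3n
    · nlinarith
    · have h12 : 3 ≤ p := by
        by_contra hcon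
        have : p = 2 := by omega
        rw [this] at hn
        omega
      have h13 : 9 ≤ q := by rw [hn]; nlinarith
      nlinarith
    · have h12 : ∀ k : ℕ, 3 ≤ k → 16 * k + 2 ≤ (2 ^ k) ^ 2 := by
        intro k hk
        induction k, hk using Nat.le_induction with
        | base => norm_num
        | succ k hk ih =>
          have : (2 ^ (k + 1)) ^ 2 = 4 * (2 ^ k) ^ 2 := by ring
          omega
      have h13 := h12 n h3n
      have h14 : (2 ^ n) ^ 2 ≤ q ^ 2 := Nat.pow_le_pow_left h11 2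
      omega
  · refine not_SC_of_orderOf hv (y := x) (by rw [hx]; exact hvN) ?_ hSC
    rw [hx]; exact hNv

end Cfsg.Agent.H896.Der4
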