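import Cfsg.Agent.H901.SaxSpFour
import Cfsg.Agent.H896.Der4.Nsc

/-!
# `PSp_4(q)`, `q` odd: two missing elements (helper896, S3500)
-/

set_option autoImplicit false
set_option linter.unusedSectionVars false

namespace Cfsg.Agent.H896.Der4

open Module Cfsg Cfsg.Geo Cfsg.Agent.H884.El Matrix
open Cfsg.Agent.H262.El (pre pre_le pre_ne scalars_le_pre mem_pre spToGL_injective two_le_of_symp)
open Cfsg.Agent.ClassicalGeometry.SympBasic Cfsg.Agent.H876 Cfsg.Agent.H931
open Cfsg.Agent.H938.Sax (PGap OrdGap OGMax)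
open Cfsg.Agent.H909.Sp4List Cfsg.Agent.H909.Sp4Geom Cfsg.Agent.H909.Sp4Arith
open Cfsg.Agent.H374.SpFour Cfsg.Agent.H374.Quad Cfsg.Agent.H901.SaxSp Cfsg.Agent.H439.Der
open scoped MatrixGroups Matrix

section ext

variable {ι : Type} [Fintype ι] [DecidableEq ι] {F : Type} [Field F]
  {K : Subalgebra F (Matrix ι ι F)}

/-- **the `p`-th power of an element with a nonzero nilpotent polynomial lies in `K`.** -/
theorem pow_mem_of' {p : ℕ} [hp : Fact p.Prime] [CharP F p] {K : Subalgebra F (Matrix ι ι F)}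
    (hK : IsFieldSubalgebra 2 K) (h4 : Fintype.card ι = 4) {Y : Matrix ι ι F} (hY : ∀ k ∈ K, Y * k = k * Y)
    {n : Matrix ι ι F} (hnK : ∀ k ∈ K, n * k = k * n) (hnY : n * Y = Y * n) (hnp : n ^ p = 0) (hn0 : n ≠ 0) :
    Y ^ p ∈ K := by
  classical
  have hne : Nonempty ι := Fintype.card_pos_iff.1 (by omega)
  have hchar : CharP (Matrix ι ι F) p := inferInstance
  -- `v` with `n v ≠ 0`, `n² v = 0`
  obtain ⟨v, h1, h2⟩ : ∃ v : ι → F, n *ᵥ v ≠ 0 ∧ n *ᵥ (n *ᵥ v) = 0 := by
    obtain ⟨u, hu⟩ : ∃ u : ι → F, n *ᵥ u ≠ 0 := by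
      by_contra h
      push Not at h
      apply hn0
      apply Matrix.toLin'.injective
      rw [map_zero]
      exact LinearMap.ext fun w => by rw [Matrix.toLin'_apply]; exact h w
    have hex : ∃ j : ℕ, (n ^ j) *ᵥ u = 0 := ⟨p, by rw [hnp, Matrix.zero_mulVec]⟩
    set j := Nat.find hex with hj
    have hj0 : (n ^ j) *ᵥ u = 0 := Nat.find_spec hex
    have hj2 : 2 ≤ j := by
      by_contra hcon
      push Not at hcon
      have : j = 0 ∨ j = 1 := by omega
      rcases this with h | h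
      · rw [h, pow_zero, Matrix.one_mulVec] at hj0
        rw [hj0, Matrix.mulVec_zero] at hu
        exact hu rfl
      · rw [h, pow_one] at hj0
        exact hu hj0
    refine ⟨(n ^ (j - 2)) *ᵥ u, ?_, ?_⟩
    · rw [Matrix.mulVec_mulVec, ← pow_succ']
      exact Nat.find_min hex (by omega)
    · rw [Matrix.mulVec_mulVec, Matrix.mulVec_mulVec, ← pow_two, ← pow_add,
        show 2 + (j - 2) = j by omega]
      exact hj0
  obtain ⟨a, ha, b, hb, hab⟩ := span_two hK h4 hnK h1 h2 (Y *ᵥ v)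
  have hYe : Y - (a + b * n) = 0 := by
    refine eq_zero_of_two hK h4 hnK h1 h2 (fun k hk => ?_) ?_ ?_
    · rw [sub_mul, mul_sub, hY k hk, add_mul, mul_add, hK.comm a ha k hk, mul_assoc, hnK k hk, ← mul_assoc,
        hK.comm b hb k hk, mul_assoc]
    · rw [Matrix.sub_mulVec, Matrix.add_mulVec, ← Matrix.mulVec_mulVec _ b n, hab, sub_self]
    · have e1 : Y *ᵥ (n *ᵥ v) = n *ᵥ (Y *ᵥ v) := by
        rw [Matrix.mulVec_mulVec, ← hnY, Matrix.mulVec_mulVec]
      rw [Matrix.sub_mulVec, Matrix.add_mulVec, ← Matrix.mulVec_mulVec _ b n, h2, Matrix.mulVec_zero, add_zero, e1,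
        hab, Matrix.mulVec_add, Matrix.mulVec_mulVec, Matrix.mulVec_mulVec, hnK a ha, hnK b hb,
        ← Matrix.mulVec_mulVec, ← Matrix.mulVec_mulVec, h2, Matrix.mulVec_zero, add_zero, sub_self]
  rw [sub_eq_zero] at hYe
  have hcomm : Commute a (b * n) := by
    change a * (b * n) = b * n * a
    rw [mul_assoc, hnK a ha, ← mul_assoc, ← mul_assoc, hK.comm a ha b hb]
  have hcbn : Commute b n := (hnK b hb).symm
  rw [hYe, add_pow_char_of_commute _ hcomm, hcbn.mul_pow, hnp, mul_zero, add_zero]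
  exact K.pow_mem ha p

/-- **elements of `Sp_2(q²).2`**: `z ^ (2 k p)` scalar implies `z ^ (2 k)` or `z ^ (2 p)` scalar. -/
theorem ext_scalar' [Fintype F] {p k : ℕ} [hp : Fact p.Prime] [CharP F p] (hp2 : p ≠ 2)
    {K : Subalgebra F (Matrix (Fin 2 ⊕ Fin 2) (Fin 2 ⊕ Fin 2) F)} (hK : IsFieldSubalgebra 2 K)
    (hsa : IsSelfAdjointFor (sympForm 2 F) K) {z : GL (Fin 2 ⊕ Fin 2) F} (hz : z ∈ spGL 2 F)
    (hzK : z ∈ subalgebraNormalizer K) {ε : F} (hε : ε ^ 2 = 1)
    (h : (z : Matrix (Fin 2 ⊕ Fin 2) (Fin 2 ⊕ Fin 2) F) ^ (2 * k * p) = ε • 1) :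
    (∃ c : F, (z : Matrix (Fin 2 ⊕ Fin 2) (Fin 2 ⊕ Fin 2) F) ^ (2 * k) = c • 1) ∨
      ∃ c : F, (z : Matrix (Fin 2 ⊕ Fin 2) (Fin 2 ⊕ Fin 2) F) ^ (2 * p) = c • 1 := by
  have hodd := hp.out.odd_of_ne_two hp2
  set Z : Matrix (Fin 2 ⊕ Fin 2) (Fin 2 ⊕ Fin 2) F := (z : Matrix (Fin 2 ⊕ Fin 2) (Fin 2 ⊕ Fin 2) F) with hZ
  have hY := sq_comm hK hzK
  rw [← hZ] at hY
  set n := (Z ^ 2) ^ k - ε • (1 : Matrix (Fin 2 ⊕ Fin 2) (Fin 2 ⊕ Fin 2) F) with hn
  by_cases hn0 : n = 0
  · left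
    refine ⟨ε, ?_⟩
    rw [hn, sub_eq_zero, ← pow_mul] at hn0
    exact hn0
  · right
    have hYk : ∀ x ∈ K, (Z ^ 2) ^ k * x = x * (Z ^ 2) ^ k := fun x hx =>
      (Commute.pow_left (show Commute (Z ^ 2) x from hY x hx) k)
    have hnK : ∀ x ∈ K, n * x = x * n := by
      intro x hx
      rw [hn, sub_mul, mul_sub, hYk x hx, Matrix.smul_mul, Matrix.mul_smul, one_mul, mul_one]
    have hnY : n * Z ^ 2 = Z ^ 2 * n := by
      rw [hn, sub_mul, mul_sub, ← pow_succ, ← pow_succ', Matrix.smul_mul, Matrix.mul_smul, one_mul, mul_one]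
    have hεp : ε ^ p = ε := by
      obtain ⟨k, hk⟩ := hodd
      rw [hk, pow_succ, pow_mul, hε, one_pow, one_mul]
    have hchar : CharP (Matrix (Fin 2 ⊕ Fin 2) (Fin 2 ⊕ Fin 2) F) p := inferInstance
    have hnp : n ^ p = 0 := by
      have hc : Commute ((Z ^ 2) ^ k) (ε • (1 : Matrix (Fin 2 ⊕ Fin 2) (Fin 2 ⊕ Fin 2) F)) := by
        change _ * _ = _ * _
        rw [Matrix.mul_smul, Matrix.smul_mul, mul_one, one_mul]
      rw [hn, sub_pow_char_of_commute _ hc, smul_pow, one_pow, hεp, ← pow_mul, ← pow_mul,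
        show 2 * (k * p) = 2 * k * p by ring, h, sub_self]
    have hmem := pow_mem_of' (p := p) hK (by decide) hY hnK hnY hnp hn0
    -- the element `c = Z ^ (2 p)` of `K` is an isometry
    set C : Matrix (Fin 2 ⊕ Fin 2) (Fin 2 ⊕ Fin 2) F := (Z ^ 2) ^ p with hC
    have hiso : ∀ u v, sympForm 2 F (C *ᵥ u) (C *ᵥ v) = sympForm 2 F u v := by
      intro u v
      have h1 := (spGL 2 F).pow_mem hz (2 * p) u v
      have h2 : glToMat (Fin 2 ⊕ Fin 2) F (z ^ (2 * p)) = C := by
        change ((z ^ (2 * p) : GL (Fin 2 ⊕ Fin 2) F) : Matrix (Fin 2 ⊕ Fin 2) (Fin 2 ⊕ Fin 2) F) = C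
        rw [Units.val_pow_eq_pow_val, hC, ← pow_mul]
      rw [h2] at h1
      exact h1
    have hCC : C * C = 1 := by
      apply Matrix.toLin'.injective
      refine LinearMap.ext fun v => ?_
      rw [Matrix.toLin'_apply, Matrix.toLin'_apply, Matrix.one_mulVec]
      rw [← sub_eq_zero]
      apply eq_zero_of_forall_sympForm_left
      intro u
      have h1 := hiso u v
      rw [hsa C hmem, Matrix.mulVec_mulVec] at h1
      have h2 : sympForm 2 F u ((C * C) *ᵥ v - v) = sympForm 2 F u ((C * C) *ᵥ v) - sympForm 2 F u v := by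
        have := map_sub (sympBilin 2 F u) ((C * C) *ᵥ v) v
        exact this
      rw [h2, h1, sub_self]
    have hprod : (C - 1) * (C + 1) = 0 := by
      rw [sub_mul, mul_add, mul_one, one_mul, hCC]
      abel
    rw [pow_mul, ← hC]
    by_cases h1 : C - 1 = 0
    · exact ⟨1, by rw [one_smul]; exact sub_eq_zero.1 h1⟩
    · obtain ⟨b, hb, hab⟩ := hK.inv (C - 1) (K.sub_mem hmem K.one_mem) h1
      have h2 : C + 1 = 0 := by
        have h3 : b * (C - 1) = 1 := by
          rw [hK.comm b hb (C - 1) (K.sub_mem hmem K.one_mem), hab]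
        have h4 := congrArg (fun x => b * x) hprod
        simp only [mul_zero] at h4
        rw [← mul_assoc, h3, one_mul] at h4
        exact h4
      exact ⟨-1, by rw [neg_smul, one_smul]; exact eq_neg_of_add_eq_zero_left h2⟩

end ext

section perm

theorem dvd_420 (σ : Equiv.Perm (Fin 7)) : orderOf σ ∣ 420 := by
  rw [← Equiv.Perm.lcm_cycleType]
  refine Multiset.lcm_dvd.2 fun n hn => ?_
  have h1 : n ≤ 7 := by
    have h2 := Multiset.le_sum_of_mem hn
    rw [Equiv.Perm.sum_cycleType] at h2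
    have h3 := Finset.card_le_univ σ.support
    rw [Fintype.card_fin] at h3
    omega
  have h2 := Equiv.Perm.two_le_of_mem_cycleType hn
  interval_cases n <;> decide

end perm

section A7

variable {F : Type} [Field F]

/-- the element orders (modulo scalars) of a group with residual core `A₇`. -/
theorem A7_order [Finite F] {H P : Subgroup (GL I4 F)} (hc : IsResidualCore H P)
    (e : (P ⧸ (scalars I4 F).subgroupOf P) ≃* alternatingGroup (Fin 7)) {z : GL I4 F} (hz : z ∈ H) :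
    z ^ 420 ∈ scalars I4 F := by
  classical
  have hsn : (scalars I4 F).Normal := Cfsg.Agent.H753.ResCard.scalars_normal
  set Z : Subgroup H := (scalars I4 F).subgroupOf H with hZ
  have hZn : Z.Normal := inferInstance
  have hPn : (P.subgroupOf H).Normal := ⟨fun x hx g => hc.normal g g.2 x hx⟩
  set T : Subgroup (H ⧸ Z) := (P.subgroupOf H).map (QuotientGroup.mk' Z) with hT
  have hTn : T.Normal := hPn.map _ (QuotientGroup.mk'_surjective Z)
  have hcent : Subgroup.centralizer (T : Set (H ⧸ Z)) = ⊥ := by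
    rw [eq_bot_iff]
    intro g hg
    obtain ⟨h, rfl⟩ := QuotientGroup.mk_surjective g
    rw [Subgroup.mem_bot]
    apply (QuotientGroup.eq_one_iff _).2
    refine hc.centralizer_scalar h h.2 ?_
    intro x hx
    obtain ⟨x', hx'⟩ : ∃ x' : H, (x' : GL I4 F) = x := ⟨⟨x, hc.le hx⟩, rfl⟩
    have h1 := Subgroup.mem_centralizer_iff.1 hg (QuotientGroup.mk' Z x')
      ⟨x', by rw [SetLike.mem_coe, Subgroup.mem_subgroupOf, hx']; exact hx, rfl⟩
    have h2 : QuotientGroup.mk' Z (h * x' * h⁻¹ * x'⁻¹) = 1 := by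
      rw [map_mul, map_mul, map_mul, map_inv, map_inv]
      change (h : H ⧸ Z) * _ * (h : H ⧸ Z)⁻¹ * _ = 1
      rw [← h1]
      group
    rw [QuotientGroup.mk'_apply, QuotientGroup.eq_one_iff, hZ, Subgroup.mem_subgroupOf] at h2
    rw [← hx']
    simpa only [Subgroup.coe_mul, Subgroup.coe_inv] using h2
  obtain ⟨f, hfx⟩ : ∃ f : P →* T, ∀ x : P, (f x : H ⧸ Z) = QuotientGroup.mk' Z ⟨x, hc.le x.2⟩ :=
    ⟨{ toFun := fun x => ⟨QuotientGroup.mk' Z ⟨x, hc.le x.2⟩, ⟨⟨x, hc.le x.2⟩, x.2, rfl⟩⟩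
       map_one' := Subtype.ext rfl
       map_mul' := fun x y => Subtype.ext rfl }, fun x => rfl⟩
  have hf : Function.Surjective f := by
    rintro ⟨_, ⟨x, hx, rfl⟩⟩
    exact ⟨⟨x, hx⟩, Subtype.ext (hfx _)⟩
  have hker : f.ker = (scalars I4 F).subgroupOf P := by
    ext x
    rw [MonoidHom.mem_ker, Subgroup.mem_subgroupOf, ← Subtype.coe_inj, hfx, QuotientGroup.mk'_apply,
      Subgroup.coe_one, QuotientGroup.eq_one_iff, hZ, Subgroup.mem_subgroupOf]
  have e' : T ≃* P ⧸ (scalars I4 F).subgroupOf P :=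
    (QuotientGroup.quotientKerEquivOfSurjective f hf).symm.trans (QuotientGroup.quotientMulEquivOfEq hker)
  have hinj := Cfsg.Agent.H753.conjNormal_injective T hcent
  have e2 : MulAut T ≃* MulAut (alternatingGroup (Fin 7)) := MulAut.congr (e'.trans e)
  have hbij := S2119.result 7 (by norm_num) (by norm_num)
  have hpow : ∀ τ : MulAut (alternatingGroup (Fin 7)), τ ^ 420 = 1 := by
    intro τ
    obtain ⟨σ, hσ⟩ := hbij.2 τ
    rw [← hσ, ← map_pow, orderOf_dvd_iff_pow_eq_one.1 (dvd_420 σ), map_one]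
  have h3 : (QuotientGroup.mk (⟨z, hz⟩ : H) : H ⧸ Z) ^ 420 = 1 := by
    apply hinj
    apply e2.injective
    rw [map_pow, map_pow, hpow, map_one, map_one]
  have h4 : ((⟨z, hz⟩ : H) ^ 420) ∈ Z := by
    rw [← QuotientGroup.eq_one_iff]
    exact h3
  exact h4

end A7

variable {F : Type} [Field F] [Fintype F]

/-- **`PSp_4(q)`, `q ≥ 5` odd**. -/
theorem row_odd (hodd : Odd (Fintype.card F)) (h5 : 5 ≤ Fintype.card F) : Row (PSp 2 F) := by
  classical
  intro M hM
  left
  have hnsc := nsc h5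
  by_cases hP : PGap (PSp 2 F) M
  · exact Two.of_pgap hnsc hP
  have h2F : (2 : F) ≠ 0 := Cfsg.Agent.H909.Sp4Geom.two_ne hodd
  have hq := one_lt_q F
  have hc : Nat.card F = Fintype.card F := Nat.card_eq_fintype_card
  obtain ⟨p, hpchar⟩ : ∃ p, CharP F p := CharP.exists F
  have hp : p.Prime := CharP.char_is_prime F p
  have hpf : Fact p.Prime := ⟨hp⟩
  obtain ⟨n, hn1, hn⟩ : ∃ n : ℕ, 1 ≤ n ∧ Fintype.card F = p ^ n := by
    obtain ⟨n, -, hn⟩ := FiniteField.card F p
    exact ⟨n, n.pos, hn⟩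
  have hp2 : p ≠ 2 := by
    rintro rfl
    rw [hn] at hodd
    exact (Nat.not_even_iff_odd.2 hodd) (Even.pow_of_ne_zero even_two (by omega))
  have hp3 : 3 ≤ p := by have := hp.two_le; omega
  have hpn : Nat.card F = p ^ n := by rw [hc, hn]
  have hspec := exists_iff (F := F) (p := p) (n := n) (by omega) hn (by rw [← hn]; omega)
  rw [← hn] at hspec
  -- the primes
  obtain ⟨r₀, hr₀⟩ : ∃ r, PP p (n * 4) r := exists_pp hp.two_le (by omega) (by omega)
  have hr₀q : PP (Nat.card F) 4 r₀ := by rw [hpn]; exact hr₀.of_pow hn1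
  have hlt := hr₀.lt (by omega)
  have h0 : r₀ ∣ Nat.card (pre M) :=
    hits_of hP (e := 4) (i := 2) (by norm_num) le_rfl (by norm_num) (Or.inl (by norm_num)) _ hr₀q
  have hpd : p ∣ Nat.card (pre M) := by
    have h1 : p ∣ Nat.card (PSp 2 F) := Cfsg.Agent.H163.PG.char_dvd_psp hp hn1 hn (by norm_num)
    have h2 : p ∣ Nat.card M := by
      by_contra h
      exact hP ⟨p, hp, h1, h⟩
    exact h2.trans (card_dvd_pre M)
  have hmax := isMaximalIn_pre hM
  rcases list hodd (res88 hodd) hmax with h | h | h | h | h | h | h | h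
  · -- totally isotropic subspaces
    exfalso
    obtain ⟨y, hyH, hyr, hy1⟩ := exists_elt' hr₀q.prime h0
    obtain ⟨W, hW0, hW, hWe⟩ := h
    rw [hWe] at hyH
    exact Cfsg.Agent.H262.El.not_mem_subspaceStabilizer_of_irr
      (Cfsg.Agent.H262.El.irr_of_od (by
        rw [← hc]; exact PP.od hr₀q (by norm_num)) hyr hy1)
      hW0 (Cfsg.Agent.H262.El.totallySingular_ne_top (by norm_num) hW) hyH.1
  · exfalso
    rw [card_of_T2 h2F h, a2] at h0
    exact PP.false_of_dvd (a := 1) (b := 1) (c := 1) (d := 2) hr₀q hq.le (by simpa using h0)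
      (fun h => hr₀q.prime.one_lt.ne' (Nat.dvd_one.1 h))
  · exfalso
    rw [card_of_T3 h2F h, a3] at h0
    refine PP.false_of_dvd (a := 1) (b := 1) (c := 2) (d := 1) hr₀q hq.le (h0.trans ?_)
      (fun h => hr₀q.prime.one_lt.ne' (Nat.dvd_one.1 h))
    have h1 : Nat.card F - 1 ∣ Nat.card F ^ 2 - 1 := by
      have := Nat.sub_dvd_pow_sub_pow (Nat.card F) 1 2
      rwa [one_pow] at this
    rw [mul_one, pow_one, pow_one, mul_assoc (Nat.card F), pow_two (Nat.card F ^ 2 - 1)]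
    exact Nat.mul_dvd_mul_left _ (Nat.mul_dvd_mul_left _ (Nat.mul_dvd_mul_right h1 _))
  · -- `Sp_2(q²).2`
    obtain ⟨K, hK, hsa, -, hKe⟩ := h
    obtain ⟨x, hx⟩ := (hspec (p * (Fintype.card F - 1))).2 (Or.inl dvd_rfl)
    obtain ⟨y, hy⟩ := (hspec (p * (Fintype.card F + 1))).2 (Or.inr (Or.inl dvd_rfl))
    have key : ∀ e : ℕ, 3 ≤ e → Even e → ∀ m ∈ M, orderOf m ≠ p * e := by
      intro e he heven m hm hmo
      obtain ⟨k, hk⟩ := heven
      have hk' : e = 2 * k := by omega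
      obtain ⟨A, hA, rfl⟩ := cl_surj m
      have hAp : spToGL 2 F ⟨A, hA⟩ ∈ pre M := mem_pre.2 hm
      have hAK : spToGL 2 F ⟨A, hA⟩ ∈ subalgebraNormalizer K := by
        rw [hKe] at hAp
        exact hAp.1
      have hpow : (cl A hA) ^ (2 * k * p) = 1 := by
        rw [show 2 * k * p = p * e by rw [hk', mul_comm], ← hmo]
        exact pow_orderOf_eq_one _
      obtain ⟨ε, hε⟩ := cl_pow_eq_one.1 hpow
      have hε2 := sq_of_scalar hA hε
      have hp0 := hp.pos
      rcases ext_scalar' (p := p) (k := k) hp2 hK hsa (spToGL_mem _) hAK hε2 hε with ⟨c, hc'⟩ | ⟨c, hc'⟩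
      · have h1 : (cl A hA) ^ (2 * k) = 1 := cl_pow_eq_one.2 ⟨c, hc'⟩
        have h2 := orderOf_dvd_of_pow_eq_one h1
        rw [hmo, ← hk'] at h2
        have := Nat.le_of_dvd (by omega) h2
        nlinarith
      · have h1 : (cl A hA) ^ (2 * p) = 1 := cl_pow_eq_one.2 ⟨c, hc'⟩
        have h2 := orderOf_dvd_of_pow_eq_one h1
        rw [hmo, mul_comm 2 p] at h2
        have h3 := Nat.dvd_of_mul_dvd_mul_left hp0 h2
        have := Nat.le_of_dvd (by omega) h3
        omega
    obtain ⟨k, hk⟩ := hodd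
    refine Two.of_orders ?_ hx hy (key _ (by omega) ⟨k, by omega⟩) (key _ (by omega) ⟨k + 1, by omega⟩)
    intro h
    have := Nat.eq_of_mul_eq_mul_left hp.pos h
    omega
  · exfalso
    rw [card_of_T5 h2F h, a5] at h0
    refine PP.false_of_dvd (a := 1) (b := 1) (c := 2) (d := 1) hr₀q hq.le (h0.trans ?_)
      (fun h => hr₀q.prime.one_lt.ne' (Nat.dvd_one.1 h))
    have h1 : Nat.card F + 1 ∣ Nat.card F ^ 2 - 1 := by
      refine ⟨Nat.card F - 1, ?_⟩
      have := Nat.sq_sub_sq (Nat.card F) 1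
      rwa [one_pow] at this
    rw [mul_one, pow_one, pow_one, mul_assoc (Nat.card F), pow_two (Nat.card F ^ 2 - 1)]
    exact Nat.mul_dvd_mul_left _ (Nat.mul_dvd_mul_left _ (Nat.mul_dvd_mul_right h1 _))
  · -- subfields
    exfalso
    obtain ⟨F₀, s, P, ζ, hs, hcard, -, -, hMe⟩ := h
    exact kill_subfield (H := pre M) (hMe.le.trans inf_le_left) hs (by rw [hc]; exact hcard) hp hpn hr₀
      (by decide) (by norm_num) h0
  · -- `2^{1+4}`
    exfalso
    have hprime := prime_of_T7 h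
    have hF : Nat.card F = p := by
      have h1 : p ∣ Nat.card F := by rw [hpn]; exact dvd_pow_self p (by omega)
      exact ((Nat.prime_dvd_prime_iff_eq hp hprime).1 h1).symm
    have h7 : Nat.card (pre M) ∣ 3840 := Cfsg.Agent.H97.Sp4Ext.card_T7_dvd h
    have hr5 : r₀ = 5 := five_of_3840 hr₀.prime (by omega) (h0.trans h7)
    have h6 : p = 5 := five_of_3840 hp (by omega) (hpd.trans h7)
    apply hr₀.not_dvd (by omega)
    rw [hr5, h6]
  · obtain ⟨P, p', hcore, hp', hchar, h | h | h⟩ := h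
    · exfalso
      obtain ⟨⟨e⟩, h1, h5, -⟩ := h
      have hpp : p' = p := CharP.eq F hchar hpchar
      subst hpp
      have h7 := Cfsg.Agent.H753.ResCard.card_A6 hmax.1.le hcore e
      have h8 : ∀ r : ℕ, r.Prime → 5 ≤ r → r ∣ 2880 → r = 5 := by
        intro r hr h5 h
        rw [show 2880 = 2 ^ 6 * 3 ^ 2 * 5 by norm_num] at h
        rcases (hr.dvd_mul).1 h with h | h
        · rcases (hr.dvd_mul).1 h with h | h
          · have := Nat.le_of_dvd (by norm_num) (hr.dvd_of_dvd_pow h)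
            omega
          · have := Nat.le_of_dvd (by norm_num) (hr.dvd_of_dvd_pow h)
            omega
        · have := Nat.le_of_dvd (by norm_num) h
          omega
      have h9 := h8 _ hr₀.prime (by omega) (h0.trans h7)
      have h10 := h8 _ hp h5 (hpd.trans h7)
      apply hr₀.not_dvd (by omega)
      rw [h9, h10]
    · obtain ⟨⟨e⟩, h1⟩ := h
      have hp7 : p = 7 := by
        have h2 : p ∣ 7 := by rw [← h1, hn]; exact dvd_pow_self p (by omega)
        exact (Nat.prime_dvd_prime_iff_eq hp (by norm_num)).1 h2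
      obtain ⟨x, hx⟩ := (hspec 25).2 (by rw [Om, h1]; norm_num)
      obtain ⟨y, hy⟩ := (hspec 56).2 (by rw [Om, h1, hp7]; norm_num)
      have key : ∀ m ∈ M, orderOf m ∣ 420 := by
        intro m hm
        obtain ⟨A, hA, rfl⟩ := cl_surj m
        have hAp : spToGL 2 F ⟨A, hA⟩ ∈ pre M := mem_pre.2 hm
        have h2 := A7_order hcore e hAp
        apply orderOf_dvd_of_pow_eq_one
        rw [cl_pow_eq_one]
        obtain ⟨c, hc'⟩ := (mem_scalars_iff _).1 h2
        refine ⟨c, ?_⟩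
        rw [Units.val_pow_eq_pow_val] at hc'
        exact hc'
      refine Two.of_orders (by norm_num) hx hy (fun m hm h => ?_) (fun m hm h => ?_)
      · have := key m hm
        rw [h] at this
        exact absurd this (by norm_num)
      · have := key m hm
        rw [h] at this
        exact absurd this (by norm_num)
    · exfalso
      obtain ⟨⟨e⟩, h5, h7⟩ := h
      have h8 := Cfsg.Agent.H753.ResCard.card_L2 hp hn hodd (by omega) hmax.1.le hcore e
      refine PP.false_of_dvd (a := n) (b := 1) (c := 1) (d := 1) hr₀q hq.le ?_ ?_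
      · simpa using h0.trans h8
      · intro h
        have := Nat.le_of_dvd hn1 h
        omega

end Cfsg.Agent.H896.Der4
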