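import Cfsg.Agent.H896.Der4.Torus

/-!
# `Sp_2(q²).2 < Sp_4(q)`, `q` even, contains no regular torus elements of order dividing `q ± 1` (helper896, S3500)
-/

set_option autoImplicit false

namespace Cfsg.Agent.H896.Der4

open Subgroup Cfsg.Agent.H439.Der Cfsg.Agent.H374.SpFour Cfsg.Agent.H374.Quad Matrix

variable {F : Type} [Field F] [Fintype F] [CharP F 2]

theorem ext_aux {L : Type} [Field L] [Finite L] [Algebra F L] (φ : L →ₐ[F] M4 F) {m : ℕ}
    (hF : Fintype.card F = 2 ^ m) (h3 : 3 ≤ 2 ^ m) (hL : Nat.card L = (2 ^ m) ^ 2)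
    (hsa : ∀ a, (φ a)ᵀ * J (Fin 2) F = J (Fin 2) F * φ a) {Z : M4 F} (hZs : Z ∈ symplecticGroup (Fin 2) F)
    (hZ : ∀ a, Z * φ a = φ a * Z) {n : ℕ} (hn : n = 2 ^ m - 1 ∨ n = 2 ^ m + 1) (hx : Ex n (cl Z hZs)) : False := by
  have hp2 : Fact (Nat.Prime 2) := ⟨Nat.prime_two⟩
  set q := 2 ^ m with hq
  have hm0 : m ≠ 0 := by
    rintro rfl
    rw [pow_zero] at hq
    omega
  have hnodd : Odd n := by
    have h1 : Even q := Even.pow_of_ne_zero even_two hm0
    rcases hn with h | h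
    · rw [h]; exact Nat.Even.sub_odd (by omega) h1 odd_one
    · rw [h]; exact h1.add_one
  -- a generator
  obtain ⟨u, hu⟩ := IsCyclic.exists_generator (α := Lˣ)
  have hou : orderOf u = q ^ 2 - 1 := by
    rw [orderOf_eq_card_of_forall_mem_zpowers hu, Nat.card_units, hL]
  have hqq : q + 1 < q ^ 2 - 1 := by
    have : q * 3 ≤ q * q := Nat.mul_le_mul_left _ h3
    rw [pow_two]; omega
  have hpow1 : ∀ j : ℕ, 0 < j → j ≤ q + 1 → (u : L) ^ j ≠ 1 := by
    intro j hj hj1 h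
    have h1 : u ^ j = 1 := Units.ext (by rw [Units.val_pow_eq_pow_val, h, Units.val_one])
    have h2 := orderOf_dvd_of_pow_eq_one h1
    have := Nat.le_of_dvd hj h2
    omega
  set a : L := (u : L) with ha
  have ha0 : a ≠ 0 := u.ne_zero
  have haq : a ^ q - a ≠ 0 := by
    intro h
    apply hpow1 (q - 1) (by omega) (by omega)
    apply mul_right_cancel₀ ha0
    rw [← pow_succ, Nat.sub_add_cancel (by omega), one_mul]
    exact sub_eq_zero.1 h
  have hunit : ∀ b : L, b ≠ 0 → ∀ X : M4 F, φ b * X = 0 → X = 0 := by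
    intro b hb X hX
    have h1 : φ b⁻¹ * (φ b * X) = 0 := by rw [hX, mul_zero]
    rwa [← mul_assoc, ← map_mul, inv_mul_cancel₀ hb, map_one, one_mul] at h1
  have hunitv : ∀ b : L, b ≠ 0 → ∀ w, φ b *ᵥ w = 0 → w = 0 := by
    intro b hb w hw
    have h1 : φ b⁻¹ *ᵥ (φ b *ᵥ w) = 0 := by rw [hw, mulVec_zero]
    rwa [mulVec_mulVec, ← map_mul, inv_mul_cancel₀ hb, map_one, one_mulVec] at h1
  -- the inverse of `Z`
  set Z' : M4 F := (((⟨Z, hZs⟩ : symplecticGroup (Fin 2) F)⁻¹ : symplecticGroup (Fin 2) F) : M4 F) with hZ'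
  have hZ's : Z' ∈ symplecticGroup (Fin 2) F := Subtype.prop _
  have hZZ' : Z * Z' = 1 := congrArg Subtype.val (mul_inv_cancel (⟨Z, hZs⟩ : symplecticGroup (Fin 2) F))
  have hZ'Z : Z' * Z = 1 := congrArg Subtype.val (inv_mul_cancel (⟨Z, hZs⟩ : symplecticGroup (Fin 2) F))
  have hZ'c : ∀ b, Z' * φ b = φ b * Z' := by
    intro b
    calc Z' * φ b = Z' * φ b * (Z * Z') := by rw [hZZ', mul_one]
      _ = Z' * (φ b * Z) * Z' := by simp only [mul_assoc]
      _ = Z' * Z * φ b * Z' := by rw [← hZ]; simp only [mul_assoc]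
      _ = φ b * Z' := by rw [hZ'Z, one_mul]
  have hZn : Z ^ n = 1 := cl_pow_eq_one_two.1 hx.2.1
  have hZ'n : Z' ^ n = 1 := by
    have h1 : (Commute Z Z') := by change _ * _ = _ * _; rw [hZZ', hZ'Z]
    have h2 := h1.mul_pow n
    rw [hZZ', hZn, one_pow, one_mul] at h2
    exact h2.symm
  have hZ1 : Z ≠ 1 := by
    rintro rfl
    exact hx.1 rfl
  have hadj : Zᵀ * J (Fin 2) F = J (Fin 2) F * Z' := by
    have h1 := SymplecticGroup.mem_iff'.1 hZs
    calc Zᵀ * J (Fin 2) F = Zᵀ * J (Fin 2) F * (Z * Z') := by rw [hZZ', mul_one]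
      _ = Zᵀ * J (Fin 2) F * Z * Z' := by simp only [mul_assoc]
      _ = _ := by rw [h1]
  have hadj' : Z'ᵀ * J (Fin 2) F = J (Fin 2) F * Z := by
    have h1 := SymplecticGroup.mem_iff'.1 hZ's
    calc Z'ᵀ * J (Fin 2) F = Z'ᵀ * J (Fin 2) F * (Z' * Z) := by rw [hZ'Z, mul_one]
      _ = Z'ᵀ * J (Fin 2) F * Z' * Z := by simp only [mul_assoc]
      _ = _ := by rw [h1]
  set c : M4 F := φ a + Z with hc
  set d : M4 F := φ a + Z' with hd
  have hcd : c * d = d * c := by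
    rw [hc, hd, add_mul, mul_add, mul_add, add_mul, mul_add, mul_add, hZZ', hZ'Z, hZ, hZ'c]
    abel
  have hcJ : cᵀ * J (Fin 2) F = J (Fin 2) F * d := by
    rw [hc, hd, transpose_add, add_mul, mul_add, hsa, hadj]
  have hdJ : dᵀ * J (Fin 2) F = J (Fin 2) F * c := by
    rw [hc, hd, transpose_add, add_mul, mul_add, hsa, hadj']
  have hchar : CharP (M4 F) 2 := inferInstance
  have hneg : ∀ X : M4 F, -X = X := fun X => CharTwo.neg_eq X
  -- `d` is invertible
  have hdet : IsUnit d.det := by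
    rw [isUnit_iff_ne_zero]
    intro h0
    obtain ⟨v, hv0, hv⟩ := Matrix.exists_mulVec_eq_zero_iff.2 h0
    apply hv0
    have h1 : Z' *ᵥ v = φ a *ᵥ v := by
      rw [hd, add_mulVec] at hv
      have h2 : Z' *ᵥ v = -(φ a *ᵥ v) := eq_neg_of_add_eq_zero_right hv
      rw [h2, ← neg_mulVec, hneg]
    have h2 : ∀ j : ℕ, Z' ^ j *ᵥ v = φ (a ^ j) *ᵥ v := by
      intro j
      induction j with
      | zero => simp
      | succ j ih =>
        rw [pow_succ, ← mulVec_mulVec, h1, mulVec_mulVec]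
        have h3 : Z' ^ j * φ a = φ a * Z' ^ j := (Commute.pow_left (show Commute Z' (φ a) from hZ'c a) j)
        rw [h3, ← mulVec_mulVec, ih, mulVec_mulVec, ← map_mul, ← pow_succ']
    have h3 := h2 n
    rw [hZ'n, one_mulVec] at h3
    apply hunitv (a ^ n - 1)
    · apply sub_ne_zero.2
      apply hpow1 n
      · rcases hn with h | h <;> omega
      · rcases hn with h | h <;> omega
    · rw [map_sub, sub_mulVec, ← h3, map_one, one_mulVec, sub_self]
  have hdd : d * d⁻¹ = 1 := mul_nonsing_inv d hdet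
  have hdd' : d⁻¹ * d = 1 := nonsing_inv_mul d hdet
  set g : M4 F := c * d⁻¹ with hg
  have hgs : g ∈ symplecticGroup (Fin 2) F := by
    rw [SymplecticGroup.mem_iff', hg, transpose_mul]
    calc d⁻¹ᵀ * cᵀ * J (Fin 2) F * (c * d⁻¹) = d⁻¹ᵀ * (cᵀ * J (Fin 2) F) * (c * d⁻¹) := by simp only [mul_assoc]
      _ = d⁻¹ᵀ * (J (Fin 2) F * (d * c)) * d⁻¹ := by rw [hcJ]; simp only [mul_assoc]
      _ = d⁻¹ᵀ * (J (Fin 2) F * c) * (d * d⁻¹) := by rw [← hcd]; simp only [mul_assoc]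
      _ = d⁻¹ᵀ * dᵀ * J (Fin 2) F := by rw [← hdJ, hdd, mul_one]; simp only [mul_assoc]
      _ = _ := by rw [← transpose_mul, hdd, transpose_one, one_mul]
  have hZc : Z * c = c * Z := by rw [hc, mul_add, add_mul, hZ]
  have hZd : Z * d = d * Z := by rw [hd, mul_add, add_mul, hZ, hZZ', hZ'Z]
  have hZd' : Z * d⁻¹ = d⁻¹ * Z := by
    calc Z * d⁻¹ = d⁻¹ * d * Z * d⁻¹ := by rw [hdd', one_mul]
      _ = d⁻¹ * (Z * d) * d⁻¹ := by rw [hZd]; simp only [mul_assoc]
      _ = d⁻¹ * Z * (d * d⁻¹) := by simp only [mul_assoc]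
      _ = _ := by rw [hdd, mul_one]
  have hgZ : g * Z = Z * g := by
    rw [hg, mul_assoc, ← hZd', ← mul_assoc, ← hZc, mul_assoc]
  have hgn : g ^ n = 1 := by
    have h1 : cl g hgs * cl Z hZs = cl Z hZs * cl g hgs := by
      change cl (g * Z) (Submonoid.mul_mem _ hgs hZs) = cl (Z * g) (Submonoid.mul_mem _ hZs hgs)
      congr 1
    exact cl_pow_eq_one_two.1 (hx.2.2 _ h1)
  have hgd : g * d = c := by rw [hg, mul_assoc, hdd', mul_one]
  have hgd' : Commute g d := by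
    change g * d = d * g
    rw [hgd, hg, ← mul_assoc, ← hcd, mul_assoc, hdd, mul_one]
  have hcn : c ^ n = d ^ n := by
    rw [← hgd, hgd'.mul_pow, hgn, one_mul]
  have hcq : c ^ q = φ a ^ q + Z ^ q := by
    rw [hc, hq]
    exact add_pow_char_pow_of_commute _ _ (show Commute (φ a) Z from (hZ a).symm)
  have hdq : d ^ q = φ a ^ q + Z' ^ q := by
    rw [hd, hq]
    exact add_pow_char_pow_of_commute _ _ (show Commute (φ a) Z' from (hZ'c a).symm)
  -- `(a ^ q - a) (Z - Z') = 0`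
  have key : φ (a ^ q - a) * (Z - Z') = 0 := by
    rw [map_sub, map_pow]
    have hZaq : Z * φ a ^ q = φ a ^ q * Z := by rw [← map_pow, hZ]
    have hZ'aq : Z' * φ a ^ q = φ a ^ q * Z' := by rw [← map_pow, hZ'c]
    rcases hn with h | h
    · -- `n = q - 1`
      have hZq : Z ^ q = Z := by
        have : q = n + 1 := by omega
        rw [this, pow_succ, hZn, one_mul]
      have hZ'q : Z' ^ q = Z' := by
        have : q = n + 1 := by omega
        rw [this, pow_succ, hZ'n, one_mul]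
      have h1 : c ^ q * d = d ^ q * c := by
        have : q = n + 1 := by omega
        rw [this, pow_succ, pow_succ, hcn, mul_assoc, mul_assoc, hcd]
      rw [hcq, hdq, hZq, hZ'q, hc, hd, add_mul, mul_add, mul_add, add_mul, mul_add, mul_add, hZZ', hZ'Z, hZ, hZ'c] at h1
      have h2 : φ a ^ q * Z' + φ a * Z = φ a ^ q * Z + φ a * Z' := by
        have e1 := congrArg (fun X => X - φ a ^ q * φ a - 1) h1
        have e2 : φ a ^ q * φ a + φ a ^ q * Z' + (φ a * Z + 1) - φ a ^ q * φ a - 1 = φ a ^ q * Z' + φ a * Z := by abel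
        have e3 : φ a ^ q * φ a + φ a ^ q * Z + (φ a * Z' + 1) - φ a ^ q * φ a - 1 = φ a ^ q * Z + φ a * Z' := by abel
        rw [e2, e3] at e1
        exact e1
      rw [sub_mul, mul_sub, mul_sub]
      have e4 : φ a ^ q * Z - φ a ^ q * Z' - (φ a * Z - φ a * Z') =
          (φ a ^ q * Z + φ a * Z') - (φ a ^ q * Z' + φ a * Z) := by abel
      rw [e4, h2, sub_self]
    · have hZq : Z ^ q = Z' := by
        have h1 : Z ^ q * Z = 1 := by rw [← pow_succ, ← h, hZn]
        calc Z ^ q = Z ^ q * (Z * Z') := by rw [hZZ', mul_one]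
          _ = Z' := by rw [← mul_assoc, h1, one_mul]
      have hZ'q : Z' ^ q = Z := by
        have h1 : Z' ^ q * Z' = 1 := by rw [← pow_succ, ← h, hZ'n]
        calc Z' ^ q = Z' ^ q * (Z' * Z) := by rw [hZ'Z, mul_one]
          _ = Z := by rw [← mul_assoc, h1, one_mul]
      have h1 : c ^ q * c = d ^ q * d := by rw [← pow_succ, ← pow_succ, ← h, hcn]
      rw [hcq, hdq, hZq, hZ'q, hc, hd, add_mul, mul_add, mul_add, add_mul, mul_add, mul_add, hZZ', hZ'Z, hZ, hZ'c] at h1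
      have h2 : φ a ^ q * Z + φ a * Z' = φ a ^ q * Z' + φ a * Z := by
        have e1 := congrArg (fun X => X - φ a ^ q * φ a - 1) h1
        have e2 : φ a ^ q * φ a + φ a ^ q * Z + (φ a * Z' + 1) - φ a ^ q * φ a - 1 = φ a ^ q * Z + φ a * Z' := by abel
        have e3 : φ a ^ q * φ a + φ a ^ q * Z' + (φ a * Z + 1) - φ a ^ q * φ a - 1 = φ a ^ q * Z' + φ a * Z := by abel
        rw [e2, e3] at e1
        exact e1
      rw [sub_mul, mul_sub, mul_sub]
      have e4 : φ a ^ q * Z - φ a ^ q * Z' - (φ a * Z - φ a * Z') =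
          (φ a ^ q * Z + φ a * Z') - (φ a ^ q * Z' + φ a * Z) := by abel
      rw [e4, h2, sub_self]
  have h4 := hunit _ haq _ key
  rw [sub_eq_zero] at h4
  apply hZ1
  obtain ⟨j, hj⟩ := hnodd
  have h5 : Z ^ 2 = 1 := by
    rw [pow_two]
    nth_rewrite 2 [h4]
    exact hZZ'
  rw [hj, pow_succ, pow_mul, h5, one_pow, one_mul] at hZn
  exact hZn

end Cfsg.Agent.H896.Der4
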