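import Cfsg.Agent.H896.Der4.Odd
import Cfsg.Agent.H896.Der4.Ext
import Cfsg.Agent.H954.FieldSub
import Cfsg.Agent.H955.QCount
import Cfsg.Agent.S5791
import Cfsg.Agent.S1163
import Cfsg.Agent.S2126

/-!
# `PSp_4(q)`, `q` even: two missing elements (helper896, S3500)
-/

set_option autoImplicit false
set_option linter.unusedSectionVars false

namespace Cfsg.Agent.H896.Der4

open Module Cfsg Cfsg.Geo Cfsg.Agent.H884.El Matrix
open Cfsg.Agent.H262.El (pre pre_le pre_ne scalars_le_pre mem_pre spToGL_injective two_le_of_symp)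
open Cfsg.Agent.ClassicalGeometry.SympBasic Cfsg.Agent.H876 Cfsg.Agent.H931
open Cfsg.Agent.H938.Sax (PGap OrdGap OGMax)
open Cfsg.Agent.H374.SpFour Cfsg.Agent.H374.Quad Cfsg.Agent.H901.SaxSp Cfsg.Agent.H439.Der
open scoped MatrixGroups Matrix

variable {F : Type} [Field F] [Fintype F] [CharP F 2]

/-- **`Sp_2(q²).2`**. -/
theorem no_ext {m : ℕ} (hF : Fintype.card F = 2 ^ m) (h3 : 3 ≤ 2 ^ m) {R : Subgroup (PSp 2 F)}
    (hR : InExt 2 F (pre R)) {n : ℕ} (hn : n = 2 ^ m - 1 ∨ n = 2 ^ m + 1) {z : PSp 2 F} (hz : z ∈ R) (hx : Ex n z) :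
    False := by
  obtain ⟨-, K, hK, hsa, -, hKe⟩ := hR
  have hm0 : m ≠ 0 := by
    rintro rfl
    rw [pow_zero] at h3
    omega
  have hnodd : Odd n := by
    have h1 : Even (2 ^ m) := Even.pow_of_ne_zero even_two hm0
    rcases hn with h | h
    · rw [h]; exact Nat.Even.sub_odd (by omega) h1 odd_one
    · rw [h]; exact h1.add_one
  obtain ⟨Z, hZ, rfl⟩ := cl_surj z
  have hZK : spToGL 2 F ⟨Z, hZ⟩ ∈ subalgebraNormalizer K := hKe (mem_pre.2 hz)
  have hsq := sq_comm hK hZK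
  have hZn : Z ^ n = 1 := cl_pow_eq_one_two.1 hx.2.1
  have hcomm : ∀ k ∈ K, Z * k = k * Z := by
    intro k hk
    obtain ⟨j, hj⟩ := hnodd
    have h1 : Z = (Z ^ 2) ^ (j + 1) := by
      rw [← pow_mul, show 2 * (j + 1) = n + 1 by omega, pow_succ, hZn, one_mul]
    have h2 : Commute (Z ^ 2) k := hsq k hk
    rw [h1]
    exact h2.pow_left (j + 1)
  obtain ⟨L, _, _, φ, hφ, hfin⟩ := Cfsg.Agent.H954.FieldSub.exists_field hK
  have hφK : ∀ a, φ a ∈ K := by
    intro a
    rw [← hφ]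
    exact ⟨a, rfl⟩
  have hfd : FiniteDimensional F L := FiniteDimensional.of_finrank_pos (by rw [hfin]; norm_num)
  have hLfin : Finite L := Module.finite_of_finite F
  have hLc : Nat.card L = (2 ^ m) ^ 2 := by
    rw [Module.natCard_eq_pow_finrank (K := F), hfin, Nat.card_eq_fintype_card, hF]
  refine ext_aux φ hF h3 hLc (fun a => ?_) hZ (fun a => hcomm _ (hφK a)) hn hx
  -- self-adjoint
  have h1 := hsa _ (hφK a)
  have h2 : ∀ u v, u ⬝ᵥ (((φ a)ᵀ * J (Fin 2) F) *ᵥ v) = u ⬝ᵥ ((J (Fin 2) F * φ a) *ᵥ v) := by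
    intro u v
    have h3 := h1 u v
    rw [sympForm_def, sympForm_def, ← vecMul_transpose, ← dotProduct_mulVec, mulVec_mulVec, mulVec_mulVec] at h3
    exact h3
  ext i j
  have h3 := h2 (Pi.single i 1) (Pi.single j 1)
  simpa using h3

/-- **`O_4^-(q)`**. -/
theorem no_minus {m : ℕ} (hF : Fintype.card F = 2 ^ m) (h3 : 3 ≤ 2 ^ m) {R : Subgroup (PSp 2 F)}
    (hR : InOMinus 2 F (pre R)) {n : ℕ} (hn : Odd n) {z : PSp 2 F} (hz : z ∈ R) (hx : Ex n z)
    {r k : ℕ} (hr : r.Prime) (hr2 : r ∣ (2 ^ m) ^ 2 - 1) (hzr : z ^ (r ^ k) = 1) :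
    False := by
  obtain ⟨-, -, Q, hpol, hnP, hQe⟩ := hR
  have hrf : Fact r.Prime := ⟨hr⟩
  obtain ⟨Z, hZ, rfl⟩ := cl_surj z
  have hZQ : spToGL 2 F ⟨Z, hZ⟩ ∈ isometryGroup F Q := hQe (mem_pre.2 hz)
  rw [H925.mem_iso_iff] at hZQ
  have hZQ' : ∀ v, Q (Z *ᵥ v) = Q v := hZQ
  have hZr : Z ^ (r ^ k) = 1 := cl_pow_eq_one_two.1 hzr
  have hnd : Cfsg.Agent.LieClassical.OrthCore.Nondeg Q := by
    intro x hx
    apply eq_zero_of_forall_sympForm_right
    intro y
    rw [← hpol]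
    exact hx y
  have hcount := Cfsg.Agent.H955.card_eq_one_of_not_isPlus (F := F) hnd (m := 2) (finrank_sum 2) hnP
  rw [Nat.card_eq_fintype_card (α := F), hF] at hcount
  set q := 2 ^ m with hq
  classical
  let X := {v : Fin 2 ⊕ Fin 2 → F // Q v = 1}
  have hfix : ∃ v : X, Z *ᵥ v.1 = v.1 := by
    have hdet : IsUnit Z := by
      rw [Matrix.isUnit_iff_isUnit_det]
      exact SymplecticGroup.symplectic_det hZ
    have hmul : ∀ v : X, Q (Z *ᵥ v.1) = 1 := fun v => by rw [hZQ', v.2]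
    have hinj : Function.Injective (fun v : X => (⟨Z *ᵥ v.1, hmul v⟩ : X)) := by
      intro v w h
      apply Subtype.ext
      exact Matrix.mulVec_injective_of_isUnit hdet (congrArg Subtype.val h)
    let σ : Equiv.Perm X := Equiv.ofBijective _ (Finite.injective_iff_bijective.1 hinj)
    have hσ : ∀ (j : ℕ) (v : X), ((σ ^ j) v).1 = (Z ^ j) *ᵥ v.1 := by
      intro j
      induction j with
      | zero => intro v; simp
      | succ j ih =>
        intro v
        rw [pow_succ, Equiv.Perm.mul_apply, ih, pow_succ, ← mulVec_mulVec]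
        rfl
    have hσr : σ ^ (r ^ k) = 1 := by
      ext1 v
      apply Subtype.ext
      rw [hσ, hZr, one_mulVec]
      rfl
    have hnd : ¬ r ∣ Fintype.card X := by
      intro hd
      rw [← Nat.card_eq_fintype_card] at hd
      have h1 : r ∣ q * Nat.card X := hd.mul_left q
      change q * Nat.card X = _ at hcount
      rw [hcount] at h1
      have h2 : q ^ (2 * 2) + q ^ 2 = (q ^ 2 - 1) * (q ^ 2 + 2) + 2 := by
        have : 1 ≤ q ^ 2 := Nat.one_le_pow _ _ (by omega)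
        obtain ⟨t, ht⟩ : ∃ t, q ^ 2 = t + 1 := ⟨q ^ 2 - 1, by omega⟩
        have h3 : q ^ (2 * 2) = (q ^ 2) ^ 2 := pow_mul q 2 2
        rw [h3, ht, Nat.add_sub_cancel]
        ring
      rw [h2] at h1
      have h4 : r ∣ 2 := (Nat.dvd_add_right (hr2.mul_right _)).1 h1
      have h5 : r = 2 := (Nat.prime_dvd_prime_iff_eq hr Nat.prime_two).1 h4
      subst h5
      have h6 : 2 ∣ q := by
        rw [hq]
        apply dvd_pow_self
        rintro rfl
        rw [hq, pow_zero] at h3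
        omega
      have h7 : 2 ∣ q ^ 2 := h6.trans (dvd_pow_self q two_ne_zero)
      have : 1 ≤ q ^ 2 := Nat.one_le_pow _ _ (by omega)
      omega
    obtain ⟨v, hv⟩ := Equiv.Perm.exists_fixed_point_of_prime hnd hσr
    refine ⟨v, ?_⟩
    have := hσ 1 v
    rw [pow_one, pow_one, hv] at this
    exact this.symm
  obtain ⟨⟨v, hv1⟩, hv⟩ := hfix
  have hv' : Z *ᵥ v = v := hv
  have hv0 : v ≠ 0 := by
    rintro rfl
    rw [map_zero] at hv1
    exact zero_ne_one hv1
  have hT := sympTransvection_mem v (1 : F)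
  have hTZ : cl _ hT * cl Z hZ = cl Z hZ * cl _ hT := by
    have h1 := mul_sympTransvection hZ v 1
    rw [hv'] at h1
    change cl (sympTransvection 2 v 1 * Z) (Submonoid.mul_mem _ hT hZ) = cl (Z * sympTransvection 2 v 1) (Submonoid.mul_mem _ hZ hT)
    congr 1
    exact h1.symm
  have hTn := cl_pow_eq_one_two.1 (hx.2.2 _ hTZ)
  have hT2 : sympTransvection 2 v (1 : F) ^ 2 = 1 := by
    rw [pow_two, sympTransvection_mul, CharTwo.add_self_eq_zero, sympTransvection_zero]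
  have hT1 : sympTransvection 2 v (1 : F) = 1 := by
    obtain ⟨j, hj⟩ := hn
    rw [hj, pow_succ, pow_mul, hT2, one_pow, one_mul] at hTn
    exact hTn
  apply hv0
  obtain ⟨w, hw⟩ : ∃ w, sympForm 2 F w v ≠ 0 := by
    by_contra hcon
    push Not at hcon
    exact hv0 (eq_zero_of_forall_sympForm_left hcon)
  have h1 := sympTransvection_mulVec v w (1 : F)
  rw [hT1, one_mulVec, one_mul] at h1
  have h2 : sympForm 2 F w v • v = 0 := by
    have := congrArg (fun x => x - w) h1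
    simp only [sub_self, add_sub_cancel_left] at this
    exact this.symm
  exact (smul_eq_zero.1 h2).resolve_left hw

/-- an odd number greater than three has a prime power divisor greater than three. -/
theorem exists_pow_gt {n : ℕ} (hn : Odd n) (h3 : 3 < n) : ∃ r k : ℕ, r.Prime ∧ r ^ k ∣ n ∧ 3 < r ^ k := by
  by_cases h : ∃ r, r.Prime ∧ r ∣ n ∧ r ≠ 3
  · obtain ⟨r, hr, hd, hr3⟩ := h
    refine ⟨r, 1, hr, by rwa [pow_one], ?_⟩
    rw [pow_one]
    have h2 := hr.two_le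
    have : r ≠ 2 := by
      rintro rfl
      exact (Nat.not_even_iff_odd.2 hn) (even_iff_two_dvd.2 hd)
    omega
  · push Not at h
    have h1 := Nat.eq_prime_pow_of_unique_prime_dvd (n := n) (p := 3) (by omega) (fun {d} hd hdn => h d hd hdn)
    exact ⟨3, _, Nat.prime_three, by rw [← h1], by rw [← h1]; exact h3⟩

/-- the order of the normaliser of a Suzuki group is not divisible by `q + 1`. -/
theorem sz_not_dvd {m : ℕ} (hm : 1 ≤ m) (hF : Fintype.card F = 2 ^ (2 * m + 1)) {S : Type} [Group S] [Finite S]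
    (e : S ≃* Cfsg.Lie.Sz F (2 ^ (m + 1))) : ¬ 2 ^ (2 * m + 1) + 1 ∣ 2 * Nat.card (MulAut S) := by
  have h1 : Nat.card (MulAut S) = Nat.card (MulAut (Cfsg.Lie.Sz F (2 ^ (m + 1)))) :=
    Nat.card_congr (MulAut.congr e).toEquiv
  rw [h1]
  have h2 : Nat.card (MulAut (Cfsg.Lie.Sz F (2 ^ (m + 1)))) ∣ (2 * m + 1) * Nat.card (Cfsg.Lie.Sz F (2 ^ (m + 1))) := by
    rw [← S2126.result hm hF, Subgroup.card_eq_card_quotient_mul_card_subgroup
      (Cfsg.Inn (Cfsg.Lie.Sz F (2 ^ (m + 1))))]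
    exact Nat.mul_dvd_mul_left _ (Subgroup.card_range_dvd _)
  rw [(S1163.result hm hF).1] at h2
  intro h3
  set q := 2 ^ (2 * m + 1) with hq
  have hq2 : 2 * m + 1 < q := Nat.lt_two_pow_self
  have heven : Even q := Even.pow_of_ne_zero even_two (by omega)
  have hodd : Odd (q + 1) := heven.add_one
  have c2 : Nat.Coprime (q + 1) 2 := hodd.coprime_two_right
  have cq : Nat.Coprime (q + 1) q := by
    rw [Nat.coprime_comm]
    exact (Nat.coprime_self_add_right (m := q) (n := 1)).2 (Nat.coprime_one_right q)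
  have cq1 : Nat.Coprime (q + 1) (q - 1) := by
    have : q + 1 = (q - 1) + 2 := by omega
    have hodd' : Odd (q - 1) := Nat.Even.sub_odd (by omega) heven odd_one
    rw [this, Nat.coprime_comm]
    exact (Nat.coprime_self_add_right (m := q - 1) (n := 2)).2 hodd'.coprime_two_right
  have cq2 : Nat.Coprime (q + 1) (q ^ 2 + 1) := by
    have h5 : q ^ 2 + 1 = (q + 1) * (q - 1) + 2 := by
      obtain ⟨t, ht⟩ : ∃ t, q = t + 1 := ⟨q - 1, by omega⟩
      rw [ht, Nat.add_sub_cancel]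
      ring
    rw [h5]
    rw [mul_comm (q + 1) (q - 1)]
    exact (Nat.coprime_mul_right_add_right (q + 1) 2 (q - 1)).2 c2
  have h4 := h3.trans (Nat.mul_dvd_mul_left 2 h2)
  have h5 := c2.dvd_of_dvd_mul_left h4
  have h6 : Nat.Coprime (q + 1) (q ^ 2 * (q - 1) * (q ^ 2 + 1)) := ((cq.pow_right 2).mul_right cq1).mul_right cq2
  have h7 := h6.dvd_of_dvd_mul_right h5
  have := Nat.le_of_dvd (by omega) h7
  omega

/-- **`PSp_4(q)`, `q ≥ 8` even**. -/
theorem row_even_aux {N : ℕ} (hF : Fintype.card F = 2 ^ N) (h8 : 8 ≤ 2 ^ N) : Row (PSp 2 F) := by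
  intro M hM
  left
  have hnsc := nsc (F := F) (by omega)
  have hp2 : Fact (Nat.Prime 2) := ⟨Nat.prime_two⟩
  have hN0 : N ≠ 0 := by
    rintro rfl
    norm_num at h8
  have heven : Even (2 ^ N) := Even.pow_of_ne_zero even_two hN0
  have hodd : ¬ Odd (Fintype.card F) := by rw [hF]; exact Nat.not_odd_iff_even.2 heven
  have hspec := exists_iff (F := F) (p := 2) (n := N) hN0 hF (by omega)
  have torus : (∀ n z, (n = 2 ^ N - 1 ∨ n = 2 ^ N + 1) → z ∈ M → Ex n z →
      (∀ r k : ℕ, r.Prime → r ∣ (2 ^ N) ^ 2 - 1 → z ^ (r ^ k) = 1 → False)) → Two (PSp 2 F) M := by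
    intro H
    have o1 : Odd (2 ^ N - 1) := Nat.Even.sub_odd (by omega) heven odd_one
    have o2 : Odd (2 ^ N + 1) := heven.add_one
    have hsq : (2 ^ N) ^ 2 - 1 = (2 ^ N - 1) * (2 ^ N + 1) := sq_sub_one _ (by omega)
    obtain ⟨r, k, hr, hrk, hr3⟩ := exists_pow_gt o2 (by omega)
    obtain ⟨s, l, hs, hsl, hs3⟩ := exists_pow_gt o1 (by omega)
    obtain ⟨x, hx, -, hx2⟩ := exists_torus hN0 hF (N := r ^ k) (o2.of_dvd_nat hrk) hr3 (Or.inr hrk)
    obtain ⟨y, hy, hy1, -⟩ := exists_torus hN0 hF (N := s ^ l) (o1.of_dvd_nat hsl) hs3 (Or.inl hsl)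
    have hEx := hx2 hrk
    have hEy := hy1 hsl
    have hk0 : k ≠ 0 := by rintro rfl; norm_num at hr3
    have hl0 : l ≠ 0 := by rintro rfl; norm_num at hs3
    refine ⟨x, y, fun φ hφ => ?_, fun φ hφ => ?_, fun φ hφ => ?_⟩
    · refine H _ _ (Or.inr rfl) hφ (hEx.map φ) r k hr ?_ (by rw [← map_pow, hx, map_one])
      rw [hsq]
      exact ((dvd_pow_self r hk0).trans hrk).mul_left _
    · refine H _ _ (Or.inl rfl) hφ (hEy.map φ) s l hs ?_ (by rw [← map_pow, hy, map_one])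
      rw [hsq]
      exact ((dvd_pow_self s hl0).trans hsl).mul_right _
    · apply hEy.1
      have h1 : y ^ (2 ^ N + 1) = 1 := by rw [← hφ, ← map_pow, hEx.2.1, map_one]
      have h2 := orderOf_dvd_of_pow_eq_one h1
      have h3 := orderOf_dvd_of_pow_eq_one hEy.2.1
      have h4 : Nat.Coprime (2 ^ N - 1) (2 ^ N + 1) := by
        have : 2 ^ N + 1 = (2 ^ N - 1) + 2 := by omega
        rw [this]
        exact (Nat.coprime_self_add_right (m := 2 ^ N - 1) (n := 2)).2 o1.coprime_two_right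
      have h5 := Nat.dvd_gcd h3 h2
      rw [h4.gcd_eq_one] at h5
      exact orderOf_eq_one_iff.1 (Nat.dvd_one.1 h5)
  rcases psp_cases (m := 2) le_rfl (by rintro ⟨-, h⟩; omega) (by omega) (fun _ => hodd) hM.1 with h | h | h | h
  · exact Two.of_pgap hnsc h
  · -- the Suzuki groups
    obtain ⟨P, m, hcore, hm, hF', ⟨e⟩⟩ := S5791.result hodd (by omega) (pre M) (isMaximalIn_pre hM) h
    have hNm : 2 ^ N = 2 ^ (2 * m + 1) := by rw [← hF, hF']
    have hdvd := Cfsg.Agent.H753.ResCard.card_dvd (isMaximalIn_pre hM).1.le hcore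
    have hnot := sz_not_dvd hm hF' e
    rw [← hNm] at hnot
    obtain ⟨x, hx⟩ := (hspec (2 ^ N + 1)).2 (Or.inr (Or.inl (dvd_mul_left _ _)))
    obtain ⟨y, hy⟩ := (hspec (2 * (2 ^ N + 1))).2 (Or.inr (Or.inl dvd_rfl))
    have key : ∀ w ∈ M, 2 ^ N + 1 ∣ orderOf w → False := by
      intro w hw hd
      apply hnot
      refine hd.trans (Dvd.dvd.trans ?_ hdvd)
      rw [← Subgroup.orderOf_mk w hw]
      exact (orderOf_dvd_natCard _).trans (card_dvd_pre M)
    refine Two.of_orders (by omega) hx hy (fun w hw h => key w hw (by rw [h])) (fun w hw h => key w hw ?_)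
    rw [h]
    exact dvd_mul_left _ _
  · refine torus fun n z hn hz hEx r k hr hrd hzr => ?_
    refine no_minus hF (by omega) h ?_ hz hEx hr hrd hzr
    rcases hn with rfl | rfl
    · exact Nat.Even.sub_odd (by omega) heven odd_one
    · exact heven.add_one
  · exact torus fun n z hn hz hEx r k hr hrd hzr => no_ext hF (by omega) h hn hz hEx

end Cfsg.Agent.H896.Der4
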