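import Cfsg.Agent.H896.Der4.Nsc

/-!
# Tori of `PSp_4(q)`, `q` even (helper896, S3500)
-/

set_option autoImplicit false

namespace Cfsg.Agent.H896.Der4

open Subgroup Cfsg.Agent.H439.Der Cfsg.Agent.H374.SpFour Cfsg.Agent.H374.Quad Matrix Polynomial
open Cfsg.Agent.H374 Cfsg.Agent.H374.SpChar

variable {F : Type} [Field F]

theorem sq_of_cl_eq {A B : M4 F} {hA : A ∈ symplecticGroup (Fin 2) F} {hB : B ∈ symplecticGroup (Fin 2) F}
    (h : cl A hA = cl B hB) : ∃ c : F, c ^ 2 = 1 ∧ B = c • A := by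
  obtain ⟨c, hc⟩ := cl_eq_iff.1 h
  refine ⟨c, ?_, hc⟩
  have h5 : (⟨c • A, hc ▸ hB⟩ * (⟨A, hA⟩ : symplecticGroup (Fin 2) F)⁻¹ : symplecticGroup (Fin 2) F).1 = c • 1 := by
    have h6 : A * (((⟨A, hA⟩ : symplecticGroup (Fin 2) F)⁻¹ : symplecticGroup (Fin 2) F) : M4 F) = 1 :=
      congrArg Subtype.val (mul_inv_cancel (⟨A, hA⟩ : symplecticGroup (Fin 2) F))
    change (c • A) * (((⟨A, hA⟩ : symplecticGroup (Fin 2) F)⁻¹ : symplecticGroup (Fin 2) F) : M4 F) = _
    rw [Matrix.smul_mul, h6]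
  rw [pow_two]
  apply LieClassical.SympCenter.sq_eq_one_of_smul_mem (m := 2) (by norm_num)
  rw [← h5]
  exact Subtype.prop _

theorem eq_one_of_sq [CharP F 2] {c : F} (h : c ^ 2 = 1) : c = 1 := by
  have h1 : (c - 1) ^ 2 = 0 := by
    rw [sub_sq, h]
    have : (2 : F) = 0 := CharTwo.two_eq_zero
    linear_combination (1 - c) * this
  exact sub_eq_zero.1 (pow_eq_zero_iff two_ne_zero |>.1 h1)

/-- in characteristic two `cl` is injective. -/
theorem cl_inj [CharP F 2] {A B : M4 F} {hA : A ∈ symplecticGroup (Fin 2) F} {hB : B ∈ symplecticGroup (Fin 2) F}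
    (h : cl A hA = cl B hB) : A = B := by
  obtain ⟨c, hc, rfl⟩ := sq_of_cl_eq h
  rw [eq_one_of_sq hc, one_smul]

theorem cl_pow_eq_one_two [CharP F 2] {A : M4 F} {hA : A ∈ symplecticGroup (Fin 2) F} {k : ℕ} :
    (cl A hA) ^ k = 1 ↔ A ^ k = 1 := by
  rw [cl_pow_eq_one]
  constructor
  · rintro ⟨c, hc⟩
    have h := sq_of_scalar hA hc
    rw [hc, eq_one_of_sq h, one_smul]
  · intro h
    exact ⟨1, by rw [h, one_smul]⟩

/-- a matrix commuting with a diagonal matrix with distinct entries is diagonal. -/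
theorem diagonal_of_comm {s t : F} (hst : s ≠ t) {A : Matrix (Fin 2) (Fin 2) F}
    (h : A * diagonal ![s, t] = diagonal ![s, t] * A) : ∃ a : Fin 2 → F, A = diagonal a := by
  refine ⟨fun i => A i i, ?_⟩
  have h1 : ∀ i j, A i j * (![s, t] : Fin 2 → F) j = (![s, t] : Fin 2 → F) i * A i j := by
    intro i j
    have := congrFun (congrFun h i) j
    rwa [mul_diagonal, diagonal_mul] at this
  ext i j
  fin_cases i <;> fin_cases j
  · simp
  · have := h1 0 1
    have h2 : A 0 1 * (t - s) = 0 := by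
      simp only [Matrix.cons_val_zero, Matrix.cons_val_one] at this
      linear_combination this
    simpa [sub_ne_zero.2 hst.symm] using h2
  · have := h1 1 0
    have h2 : A 1 0 * (s - t) = 0 := by
      simp only [Matrix.cons_val_zero, Matrix.cons_val_one] at this
      linear_combination this
    simpa [sub_ne_zero.2 hst] using h2
  · simp

/-- the matrices commuting with `comp S`, `S` diagonal. -/
theorem comm_form {s t : F} (hst : s ≠ t) {G : M4 F}
    (h : G * SpLow.comp (diagonal ![s, t]) = SpLow.comp (diagonal ![s, t]) * G) :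
    ∃ a b : Fin 2 → F, G = fromBlocks (diagonal a) (diagonal b) (-(diagonal b))
      (diagonal a - diagonal b * diagonal ![s, t]) := by
  set S : Matrix (Fin 2) (Fin 2) F := diagonal ![s, t] with hS
  obtain ⟨A, B, C, E, rfl⟩ : ∃ A B C E, G = fromBlocks A B C E :=
    ⟨_, _, _, _, (fromBlocks_toBlocks G).symm⟩
  rw [SpLow.comp, fromBlocks_multiply, fromBlocks_multiply, fromBlocks_inj] at h
  obtain ⟨h1, h2, h3, h4⟩ := h
  simp only [Matrix.mul_zero, Matrix.mul_neg, Matrix.mul_one, zero_add, Matrix.zero_mul, Matrix.one_mul,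
    Matrix.neg_mul] at h1 h2 h3 h4
  have hC : C = -B := by rw [h1, neg_neg]
  have hE : E = A - B * S := by
    have : E = -(-A + B * S) := by rw [h2, neg_neg]
    rw [this]; abel
  have hBS : B * S = S * B := by
    rw [hC, hE, Matrix.mul_neg] at h3
    have e1 : B * S = A - (A - B * S) := by abel
    rw [e1, h3]; abel
  have hAS : A * S = S * A := by
    rw [hC, hE, Matrix.sub_mul, Matrix.mul_sub, hBS, Matrix.mul_assoc, hBS] at h4
    have e1 : A * S = (- -B + (A * S - S * (S * B))) - B + S * (S * B) := by abel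
    rw [e1, h4]; abel
  obtain ⟨a, rfl⟩ := diagonal_of_comm hst hAS
  obtain ⟨b, rfl⟩ := diagonal_of_comm hst hBS
  exact ⟨a, b, by rw [hC, hE]⟩

/-- the inverse of `comp S`. -/
def inv (S : Matrix (Fin 2) (Fin 2) F) : M4 F := fromBlocks S 1 (-1) 0

theorem comp_mul_inv (S : Matrix (Fin 2) (Fin 2) F) : SpLow.comp S * inv S = 1 := by
  rw [SpLow.comp, inv, fromBlocks_multiply, ← fromBlocks_one]
  simp

theorem inv_mul_comp (S : Matrix (Fin 2) (Fin 2) F) : inv S * SpLow.comp S = 1 := by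
  rw [SpLow.comp, inv, fromBlocks_multiply, ← fromBlocks_one]
  simp

set_option linter.unusedSectionVars false

section pow

variable [Fintype F] {p n : ℕ} [hp : Fact p.Prime] [CharP F p]

theorem diag_pow (hF : Fintype.card F = p ^ n) (a : Fin 2 → F) :
    (fromBlocks (diagonal a) 0 0 (diagonal a) : M4 F) ^ (p ^ n) = fromBlocks (diagonal a) 0 0 (diagonal a) := by
  rw [fromBlocks_diagonal_pow, diagonal_pow]
  have : a ^ (p ^ n) = a := by
    funext i
    rw [Pi.pow_apply, ← hF]
    exact FiniteField.pow_card (a i)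
  rw [this]

theorem G_pow (hF : Fintype.card F = p ^ n) {s t : F} (a b : Fin 2 → F) :
    (fromBlocks (diagonal a) (diagonal b) (-(diagonal b)) (diagonal a - diagonal b * diagonal ![s, t]) : M4 F) ^ (p ^ n) =
      fromBlocks (diagonal a) 0 0 (diagonal a) -
        fromBlocks (diagonal b) 0 0 (diagonal b) * SpLow.comp (diagonal ![s, t]) ^ (p ^ n) := by
  have hcomm : ∀ c d : Fin 2 → F, diagonal c * diagonal d = diagonal d * diagonal c := by
    intro c d
    rw [diagonal_mul_diagonal, diagonal_mul_diagonal]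
    congr 1
    funext i
    exact mul_comm _ _
  have h1 : (fromBlocks (diagonal a) (diagonal b) (-(diagonal b)) (diagonal a - diagonal b * diagonal ![s, t]) : M4 F) =
      fromBlocks (diagonal a) 0 0 (diagonal a) -
        fromBlocks (diagonal b) 0 0 (diagonal b) * SpLow.comp (diagonal ![s, t]) := by
    rw [SpLow.comp, fromBlocks_multiply, sub_eq_add_neg (fromBlocks (diagonal a) 0 0 (diagonal a)), fromBlocks_neg,
      fromBlocks_add]
    simp [sub_eq_add_neg]
  have hPQ : Commute (fromBlocks (diagonal a) 0 0 (diagonal a) : M4 F) (fromBlocks (diagonal b) 0 0 (diagonal b)) := by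
    change _ * _ = _ * _
    rw [fromBlocks_multiply, fromBlocks_multiply]
    simp only [Matrix.mul_zero, Matrix.zero_mul, add_zero, zero_add, hcomm a b]
  have hD : ∀ c : Fin 2 → F, Commute (fromBlocks (diagonal c) 0 0 (diagonal c) : M4 F)
      (SpLow.comp (diagonal ![s, t])) := by
    intro c
    change _ * _ = _ * _
    rw [SpLow.comp, fromBlocks_multiply, fromBlocks_multiply]
    simp only [Matrix.mul_zero, Matrix.zero_mul, add_zero, zero_add, hcomm c, Matrix.mul_neg, Matrix.neg_mul,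
      Matrix.mul_one, Matrix.one_mul, neg_zero]
  have hchar : CharP (M4 F) p := inferInstance
  rw [h1, sub_pow_char_pow_of_commute _ _ (hPQ.mul_right (hD a)), (hD b).mul_pow, diag_pow hF, diag_pow hF]

/-- the centralizer of an element of order dividing `q - 1`. -/
theorem pow_sub_of_comm (hF : Fintype.card F = p ^ n) {s t : F} (hst : s ≠ t) {G : M4 F}
    (hG : G ∈ symplecticGroup (Fin 2) F)
    (h : G * SpLow.comp (diagonal ![s, t]) = SpLow.comp (diagonal ![s, t]) * G)
    (hx : SpLow.comp (diagonal ![s, t]) ^ (p ^ n - 1) = 1) : G ^ (p ^ n - 1) = 1 := by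
  have hq : 1 ≤ p ^ n := Nat.one_le_pow _ _ hp.out.pos
  have h1 : SpLow.comp (diagonal ![s, t]) ^ (p ^ n) = SpLow.comp (diagonal ![s, t]) := by
    conv_lhs => rw [← Nat.sub_add_cancel hq, pow_succ, hx, one_mul]
  obtain ⟨a, b, rfl⟩ := comm_form hst h
  have h2 := G_pow (p := p) (n := n) hF (s := s) (t := t) a b
  rw [h1] at h2
  have h3 : (fromBlocks (diagonal a) (diagonal b) (-(diagonal b)) (diagonal a - diagonal b * diagonal ![s, t]) : M4 F) =
      fromBlocks (diagonal a) 0 0 (diagonal a) -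
        fromBlocks (diagonal b) 0 0 (diagonal b) * SpLow.comp (diagonal ![s, t]) := by
    rw [SpLow.comp, fromBlocks_multiply, sub_eq_add_neg (fromBlocks (diagonal a) 0 0 (diagonal a)), fromBlocks_neg,
      fromBlocks_add]
    simp [sub_eq_add_neg]
  rw [← h3] at h2
  set G : M4 F := fromBlocks (diagonal a) (diagonal b) (-(diagonal b)) (diagonal a - diagonal b * diagonal ![s, t]) with hGd
  have h6 : G * (((⟨G, hG⟩ : symplecticGroup (Fin 2) F)⁻¹ : symplecticGroup (Fin 2) F) : M4 F) = 1 :=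
    congrArg Subtype.val (mul_inv_cancel (⟨G, hG⟩ : symplecticGroup (Fin 2) F))
  have h7 : G ^ (p ^ n - 1) * G = G := by rw [← pow_succ, Nat.sub_add_cancel hq, h2]
  have h8 := congrArg (fun X => X * (((⟨G, hG⟩ : symplecticGroup (Fin 2) F)⁻¹ : symplecticGroup (Fin 2) F) : M4 F)) h7
  simp only [mul_assoc, h6, mul_one] at h8
  exact h8

/-- the centralizer of an element of order dividing `q + 1`. -/
theorem pow_add_of_comm (hF : Fintype.card F = p ^ n) {s t : F} (hst : s ≠ t) {G : M4 F}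
    (hG : G ∈ symplecticGroup (Fin 2) F)
    (h : G * SpLow.comp (diagonal ![s, t]) = SpLow.comp (diagonal ![s, t]) * G)
    (hx : SpLow.comp (diagonal ![s, t]) ^ (p ^ n + 1) = 1) : G ^ (p ^ n + 1) = 1 := by
  have h1 : SpLow.comp (diagonal ![s, t]) ^ (p ^ n) = inv (diagonal ![s, t]) := by
    have e1 := congrArg (fun X => X * inv (diagonal ![s, t])) hx
    simp only [pow_succ, mul_assoc, comp_mul_inv, mul_one, one_mul] at e1
    exact e1
  obtain ⟨a, b, rfl⟩ := comm_form hst h
  have h2 := G_pow (p := p) (n := n) hF (s := s) (t := t) a b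
  rw [h1] at h2
  set G : M4 F := fromBlocks (diagonal a) (diagonal b) (-(diagonal b)) (diagonal a - diagonal b * diagonal ![s, t]) with hGd
  have h3 : G ^ (p ^ n) = -(J (Fin 2) F * Gᵀ * J (Fin 2) F) := by
    rw [h2, hGd, inv, J, fromBlocks_transpose, fromBlocks_multiply, fromBlocks_multiply, fromBlocks_multiply,
      fromBlocks_neg, sub_eq_add_neg, fromBlocks_neg, fromBlocks_add]
    simp [diagonal_transpose]
    constructor <;> abel
  rw [pow_succ', h3, Matrix.mul_neg, ← Matrix.mul_assoc, ← Matrix.mul_assoc]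
  rw [SymplecticGroup.mem_iff] at hG
  rw [hG, J_squared, neg_neg]

end pow

/-- an element `x ≠ 1` with `x ^ n = 1` whose centralizer has exponent dividing `n`. -/
def Ex {G : Type} [Group G] (n : ℕ) (x : G) : Prop := x ≠ 1 ∧ x ^ n = 1 ∧ ∀ g : G, g * x = x * g → g ^ n = 1

theorem Ex.map {G : Type} [Group G] {n : ℕ} {x : G} (h : Ex n x) (φ : G ≃* G) : Ex n (φ x) := by
  refine ⟨fun h1 => h.1 (φ.injective (by rw [h1, map_one])), by rw [← map_pow, h.2.1, map_one], fun g hg => ?_⟩
  have h1 : φ.symm g * x = x * φ.symm g := by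
    apply φ.injective
    rw [map_mul, map_mul, φ.apply_symm_apply, hg]
  have h2 := h.2.2 _ h1
  rw [← map_pow] at h2
  have := congrArg φ h2
  rwa [φ.apply_symm_apply, map_one] at this

section exists_torus

variable [Fintype F] {n : ℕ} [CharP F 2]

theorem exists_torus (hn : n ≠ 0) (hF : Fintype.card F = 2 ^ n) {N : ℕ} (hN2 : Odd N) (hN3 : 3 < N)
    (hN : N ∣ 2 ^ n - 1 ∨ N ∣ 2 ^ n + 1) : ∃ x : Cfsg.PSp 2 F, x ^ N = 1 ∧
      (N ∣ 2 ^ n - 1 → Ex (2 ^ n - 1) x) ∧ (N ∣ 2 ^ n + 1 → Ex (2 ^ n + 1) x) := by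
  have hp : Fact (Nat.Prime 2) := ⟨Nat.prime_two⟩
  set q := 2 ^ n with hq
  have hq1 : 1 ≤ q := Nat.one_le_two_pow
  let K := AlgebraicClosure F
  let i : F →+* K := algebraMap F K
  have hK : CharP K 2 := charP_of_injective_ringHom i.injective 2
  have hNK : (N : K) ≠ 0 := by
    intro h
    rw [CharP.cast_eq_zero_iff K 2 N] at h
    exact (Nat.not_even_iff_odd.2 hN2) (even_iff_two_dvd.2 h)
  have : NeZero (N : K) := ⟨hNK⟩
  obtain ⟨α, hα⟩ := HasEnoughRootsOfUnity.exists_primitiveRoot K N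
  have hN0 : N ≠ 0 := by omega
  have hα0 : α ≠ 0 := hα.ne_zero hN0
  have hqq : α ^ q = α ∨ α ^ q = α⁻¹ := by
    rcases hN with ⟨c, hc⟩ | ⟨c, hc⟩
    · left
      calc α ^ q = α ^ (q - 1) * α := by rw [← pow_succ, Nat.sub_add_cancel hq1]
        _ = α := by rw [hc, pow_mul, hα.pow_eq_one, one_pow, one_mul]
    · right
      have h5 : α ^ (q + 1) = 1 := by rw [hc, pow_mul, hα.pow_eq_one, one_pow]
      rw [pow_succ] at h5
      exact eq_inv_of_mul_eq_one_left h5
  set s := α + α⁻¹ with hs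
  have hsq : s ^ q = s := by
    rw [hs, hq, pow_q_add, inv_pow, ← hq]
    rcases hqq with h | h
    · rw [h]
    · rw [h, inv_inv, add_comm]
  obtain ⟨s0, hs0⟩ := SpLow.mem_range_of_pow i (x := s) (by rw [hF, hsq])
  have ht : s ^ 2 = α ^ 2 + (α ^ 2)⁻¹ := by
    rw [hs, add_sq, inv_pow]
    have h2 : (2 : K) = 0 := CharTwo.two_eq_zero
    rw [h2]
    ring
  have hst' : s ≠ s ^ 2 := by
    intro h
    rw [ht] at h
    rw [hs] at h
    rcases add_inv_eq hα0 (pow_ne_zero 2 hα0) h with h | h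
    · have h5 : α ^ 1 = 1 := by
        apply mul_right_cancel₀ hα0
        rw [pow_one, ← pow_two, ← h, one_mul]
      have := Nat.le_of_dvd (by norm_num) (hα.dvd_of_pow_eq_one _ h5)
      omega
    · have h5 : α ^ 3 = 1 := by
        have h6 := congrArg (fun x => x * α ^ 2) h
        simp only [inv_mul_cancel₀ (pow_ne_zero 2 hα0)] at h6
        rw [pow_succ', h6]
      have := Nat.le_of_dvd (by norm_num) (hα.dvd_of_pow_eq_one _ h5)
      omega
  have hst : s0 ≠ s0 ^ 2 := by
    intro h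
    apply hst'
    rw [← hs0, ← map_pow, ← h]
  set S : Matrix (Fin 2) (Fin 2) F := diagonal ![s0, s0 ^ 2] with hS
  have hST : Sᵀ = S := diagonal_transpose _
  have hSS : S * S = (s0 + s0 ^ 2) • S - (s0 * s0 ^ 2) • 1 := by
    ext j k
    fin_cases j <;> fin_cases k <;>
      simp [S, Matrix.mul_apply, Fin.sum_univ_two] <;> ring
  have hAm := SpLow.comp_mem hST
  have hpow : SpLow.comp S ^ N = 1 := by
    have h6 : f s * f (s ^ 2) ∣ (X ^ N - C 1 : K[X]) := by
      apply (isCoprime_f hst').mul_dvd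
      · refine f_dvd hα0 ?_ hα.pow_eq_one (one_pow _)
        intro h
        have h5 : α ^ 2 = 1 := sq_eq_one_of_eq_inv hα0 h
        have := Nat.le_of_dvd (by norm_num) (hα.dvd_of_pow_eq_one _ h5)
        omega
      · rw [ht]
        refine f_dvd (pow_ne_zero 2 hα0) ?_ (by rw [← pow_mul, mul_comm, pow_mul, hα.pow_eq_one, one_pow]) (one_pow _)
        intro h
        have h5 := sq_eq_one_of_eq_inv (pow_ne_zero 2 hα0) h
        rw [← pow_mul] at h5
        have h7 := hα.dvd_of_pow_eq_one _ h5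
        have h8 : N ∣ 1 := by
          have : Nat.Coprime N (2 * 2) := by
            have := hN2.coprime_two_right
            exact Nat.Coprime.mul_right this this
          exact (this.dvd_of_dvd_mul_left (by simpa using h7))
        have := Nat.le_of_dvd (by norm_num) h8
        omega
    have h7 := pow_of_dvd (A := SpLow.comp S) (SpLow.aeval_comp hSS) (m := N) (η := 1) ?_
    · rw [h7, one_smul]
    · rw [← Polynomial.map_dvd_map' i, g4_map]
      rw [← g4_eq] at h6
      have e2 : i (s0 + s0 ^ 2) = s + s ^ 2 := by rw [map_add, map_pow, hs0]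
      have e3 : i (s0 * s0 ^ 2 + 2) = s * s ^ 2 + 2 := by rw [map_add, map_mul, map_pow, hs0, map_ofNat]
      rw [e2, e3]
      simpa using h6
  have hne : cl (SpLow.comp S) hAm ≠ 1 := by
    intro h
    have h1 : cl (SpLow.comp S) hAm = cl 1 (Submonoid.one_mem _) := h
    have h2 := cl_inj h1
    have h3 := congrFun (congrFun h2 (Sum.inl 0)) (Sum.inl 0)
    simp [SpLow.comp] at h3
  have hlift : ∀ g : Cfsg.PSp 2 F, g * cl (SpLow.comp S) hAm = cl (SpLow.comp S) hAm * g →
      ∃ G hG, cl G hG = g ∧ G * SpLow.comp S = SpLow.comp S * G := by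
    intro g hg
    obtain ⟨G, hG, rfl⟩ := cl_surj g
    refine ⟨G, hG, rfl, ?_⟩
    exact cl_inj (hA := Submonoid.mul_mem _ hG hAm) (hB := Submonoid.mul_mem _ hAm hG) hg
  refine ⟨cl (SpLow.comp S) hAm, cl_pow_eq_one_two.2 hpow, fun hd => ⟨hne, ?_, fun g hg => ?_⟩,
    fun hd => ⟨hne, ?_, fun g hg => ?_⟩⟩
  · rw [cl_pow_eq_one_two]
    obtain ⟨c, hc⟩ := hd
    rw [hc, pow_mul, hpow, one_pow]
  · obtain ⟨G, hG, rfl, hGc⟩ := hlift g hg
    rw [cl_pow_eq_one_two]
    refine pow_sub_of_comm (p := 2) hF hst hG hGc ?_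
    obtain ⟨c, hc⟩ := hd
    rw [← hq, hc, pow_mul, hpow, one_pow]
  · rw [cl_pow_eq_one_two]
    obtain ⟨c, hc⟩ := hd
    rw [hc, pow_mul, hpow, one_pow]
  · obtain ⟨G, hG, rfl, hGc⟩ := hlift g hg
    rw [cl_pow_eq_one_two]
    refine pow_add_of_comm (p := 2) hF hst hG hGc ?_
    obtain ⟨c, hc⟩ := hd
    rw [← hq, hc, pow_mul, hpow, one_pow]

end exists_torus

end Cfsg.Agent.H896.Der4
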